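import Cfsg.Agent.Lib.Helper12.Ord.Fi22Simple
import Cfsg.Agent.Lib.Helper12.Ord.Words

/-!
The presented group Fi22 and its permutation representation of degree `3510`: the centraliser of the first generator is
the subgroup of the representation, every generator is a conjugate of the first generator, and a word which fixes the
nine points of the generators is trivial (helper12).
-/

set_option autoImplicit false
set_option maxRecDepth 100000

namespace Cfsg.Agent.Lib.Helper12.OutFi22.Base

open Cfsg.Spor Cfsg.Agent.Lib.Helper12.TC Cfsg.Agent.Lib.Helper12.TC.Fi22o3510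
  Cfsg.Agent.Lib.Helper12.TC.Fi22Pres Cfsg.Agent.Lib.Helper12.Ord
  Cfsg.Agent.Lib.Helper12.Ord.Fi22Simple

/-- the central element of the subgroup: the first generator -/
noncomputable def tt : PresentedGroup R := v 0

theorem hvsq : ∀ s, v s * v s = 1 := fun s => hsq (gen s)

theorem tt_eq_uu : tt = uu 0 := (uu_gen 0 (by decide)).symm

theorem tt_sq : tt * tt = 1 := hvsq 0

theorem hpt1 : Nat.beq (TT 0 1) 2 = true := by decide +kernel

theorem hpt2 : Nat.beq (Fn.applyW TT [0, 1] 0) 2 = true := by decide +kernel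

theorem hpt3 : Nat.beq (Fn.applyW TT [1, 0] 0) 1 = true := by decide +kernel

theorem tt_ne_one : tt ≠ 1 := by
  intro h
  have h3 : ((rho (v 0) ⟨1, by decide⟩ : Fin cN) : ℕ) = 2 := by
    rw [rho_v 0 (by decide)]
    exact Nat.eq_of_beq_eq_true hpt1
  have h1 : v 0 = 1 := h
  rw [h1, map_one] at h3
  exact absurd h3 (by decide)

theorem center_eq_bot : Subgroup.center (PresentedGroup R) = ⊥ := by
  rcases isSimpleGroup.eq_bot_or_eq_top_of_normal (Subgroup.center (PresentedGroup R))
    inferInstance with h | h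
  · exact h
  · exfalso
    have hc : v 0 ∈ Subgroup.center (PresentedGroup R) := by rw [h]; trivial
    have h1 : v 1 * v 0 = v 0 * v 1 := Subgroup.mem_center_iff.mp hc (v 1)
    have e1 : ((rho (wprod v [0, 1]) ⟨0, hN0⟩ : Fin cN) : ℕ) = 2 := by
      rw [Fn.rho_word v rho rho_v [0, 1] (by decide)]
      exact Nat.eq_of_beq_eq_true hpt2
    have e2 : ((rho (wprod v [1, 0]) ⟨0, hN0⟩ : Fin cN) : ℕ) = 1 := by
      rw [Fn.rho_word v rho rho_v [1, 0] (by decide)]
      exact Nat.eq_of_beq_eq_true hpt3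
    have e3 : wprod v [0, 1] = wprod v [1, 0] := by
      rw [wprod_cons, wprod_cons, wprod_nil, mul_one, wprod_cons, wprod_cons, wprod_nil, mul_one]
      exact h1.symm
    rw [e3, e2] at e1
    exact absurd e1 (by decide)

theorem centralizer_tt : Subgroup.centralizer {tt} = Hs := by
  have hle : Hs ≤ Subgroup.centralizer {tt} := by
    intro h hh
    rw [Subgroup.mem_centralizer_singleton_iff]
    exact central h hh
  by_contra hne
  have hlt : Hs < Subgroup.centralizer {tt} := lt_of_le_of_ne hle (fun h => hne h.symm)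
  have htop := isCoatom_H.2 _ hlt
  have hcen : tt ∈ Subgroup.center (PresentedGroup R) := by
    rw [Subgroup.mem_center_iff]
    intro g
    have : g ∈ Subgroup.centralizer {tt} := by rw [htop]; trivial
    exact Subgroup.mem_centralizer_singleton_iff.mp this
  rw [center_eq_bot, Subgroup.mem_bot] at hcen
  exact tt_ne_one hcen

/-- the words which conjugate the first generator to the generators -/
def cw : ℕ → List ℕ
  | 0 => []
  | 1 => [0, 1]
  | 2 => [1, 2, 0, 1]
  | 3 => [2, 3, 1, 2, 0, 1]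
  | 4 => [3, 4, 2, 3, 1, 2, 0, 1]
  | 5 => [4, 5, 3, 4, 2, 3, 1, 2, 0, 1]
  | 6 => [5, 6, 4, 5, 3, 4, 2, 3, 1, 2, 0, 1]
  | 7 => [3, 7, 2, 3, 1, 2, 0, 1]
  | 8 => [7, 8, 3, 7, 2, 3, 1, 2, 0, 1]
  | _ => []

/-- the points of the generators -/
def qpts : List ℕ := [0, 2, 2817, 2819, 2827, 2854, 2922, 2830, 2863]

theorem cw_lt : ∀ k < 9, ∀ s ∈ cw k, s < 9 := by decide

theorem qpts_lt : ∀ q ∈ qpts, q < cN := by decide

theorem cw_pt : ∀ k < 9, Fn.applyW TT (cw k) 0 = qpts.getD k 0 := by decide +kernel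

/-- a step along an edge of the graph -/
theorem conj_step {x y : ℕ} (h3 : (v x * v y) ^ 3 = 1) {c : List ℕ}
    (hx : v x = wprod v c * tt * (wprod v c)⁻¹) :
    v y = wprod v (x :: y :: c) * tt * (wprod v (x :: y :: c))⁻¹ := by
  have h := conj_eq_of_braid (v x) (v y) (hvsq x) (hvsq y) h3
  rw [wprod_cons, wprod_cons]
  have e : v x * (v y * wprod v c) * tt * (v x * (v y * wprod v c))⁻¹ =
      (v x * v y) * (wprod v c * tt * (wprod v c)⁻¹) * (v x * v y)⁻¹ := by group
  rw [e, ← hx, h]

theorem braid_v (x y : ℕ) (h : coxLabel Cfsg.Spor.Fi22.edges (gen x) (gen y) = 3) : (v x * v y) ^ 3 = 1 :=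
  hbraid (gen x) (gen y) h

/-- the generators are conjugates of the first generator -/
theorem conj_gen : ∀ k < 9, v k = wprod v (cw k) * tt * (wprod v (cw k))⁻¹ := by
  have h0 : v 0 = wprod v (cw 0) * tt * (wprod v (cw 0))⁻¹ := by
    show v 0 = wprod v [] * v 0 * (wprod v [])⁻¹
    rw [wprod_nil, one_mul, inv_one, mul_one]
  have h1 : v 1 = wprod v (cw 1) * tt * (wprod v (cw 1))⁻¹ := conj_step (braid_v 0 1 (by decide)) h0
  have h2 : v 2 = wprod v (cw 2) * tt * (wprod v (cw 2))⁻¹ := conj_step (braid_v 1 2 (by decide)) h1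
  have h3 : v 3 = wprod v (cw 3) * tt * (wprod v (cw 3))⁻¹ := conj_step (braid_v 2 3 (by decide)) h2
  have h4 : v 4 = wprod v (cw 4) * tt * (wprod v (cw 4))⁻¹ := conj_step (braid_v 3 4 (by decide)) h3
  have h5 : v 5 = wprod v (cw 5) * tt * (wprod v (cw 5))⁻¹ := conj_step (braid_v 4 5 (by decide)) h4
  have h6 : v 6 = wprod v (cw 6) * tt * (wprod v (cw 6))⁻¹ := conj_step (braid_v 5 6 (by decide)) h5
  have h7 : v 7 = wprod v (cw 7) * tt * (wprod v (cw 7))⁻¹ := conj_step (braid_v 3 7 (by decide)) h3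
  have h8 : v 8 = wprod v (cw 8) * tt * (wprod v (cw 8))⁻¹ := conj_step (braid_v 7 8 (by decide)) h7
  intro k hk
  interval_cases k
  · exact h0
  · exact h1
  · exact h2
  · exact h3
  · exact h4
  · exact h5
  · exact h6
  · exact h7
  · exact h8

/-- the elements which fix the first point are in the subgroup -/
theorem mem_Hs_of_fix (γ : PresentedGroup R) (h : rho γ ⟨0, hN0⟩ = ⟨0, hN0⟩) : γ ∈ Hs := by
  obtain ⟨Φ, hΦ⟩ := rho_equiv
  have h1 : Φ (γ : PresentedGroup R ⧸ Hs) = Φ ((1 : PresentedGroup R) : PresentedGroup R ⧸ Hs) := by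
    rw [hΦ, hΦ, h, map_one, Equiv.Perm.one_apply]
  have h2 := Φ.injective h1
  have h3 : (1 : PresentedGroup R)⁻¹ * γ ∈ Hs := QuotientGroup.eq.mp h2.symm
  simpa using h3

/-- an element which commutes with the generators is trivial -/
theorem eq_one_of_comm (g : PresentedGroup R) (h : ∀ k < 9, g * v k = v k * g) : g = 1 := by
  have hc : g ∈ Subgroup.center (PresentedGroup R) := by
    rw [Subgroup.mem_center_iff]
    intro x
    have hx : x ∈ Subgroup.closure (Set.range fun y : Cfsg.Spor.Fi22.Gen => PresentedGroup.mk R (FreeGroup.of y)) := by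
      have : Subgroup.closure (Set.range fun y : Cfsg.Spor.Fi22.Gen => PresentedGroup.mk R (FreeGroup.of y)) = ⊤ := by
        have h1 := PresentedGroup.closure_range_of R
        exact h1
      rw [this]
      trivial
    refine Subgroup.closure_induction (p := fun x _ => x * g = g * x) ?_ ?_ ?_ ?_ hx
    · rintro _ ⟨y, rfl⟩
      obtain ⟨hy1, hy2⟩ := hidx y
      have := h (idx y) hy1
      show PresentedGroup.mk R (FreeGroup.of y) * g = g * PresentedGroup.mk R (FreeGroup.of y)
      have e : v (idx y) = PresentedGroup.mk R (FreeGroup.of y) := by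
        show PresentedGroup.mk R (FreeGroup.of (gen (idx y))) = _
        rw [hy2]
      rw [← e]
      exact this.symm
    · rw [one_mul, mul_one]
    · intro a b _ _ ha hb
      rw [mul_assoc, hb, ← mul_assoc, ha, mul_assoc]
    · intro a _ ha
      have : a⁻¹ * (a * g) * a⁻¹ = a⁻¹ * (g * a) * a⁻¹ := by rw [ha]
      have h2 : g * a⁻¹ = a⁻¹ * g := by simpa [mul_assoc] using this
      exact h2.symm
  rw [center_eq_bot, Subgroup.mem_bot] at hc
  exact hc

end Cfsg.Agent.Lib.Helper12.OutFi22.Base
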