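import Cfsg.Agent.Lib.Helper12.OutFi22.Syl

/-!
Every automorphism of the presented group Fi22 maps the transpositions to transpositions: after the multiplication with
an inner automorphism it fixes a Sylow `7`-subgroup, so it maps the first generator to an involution of the centraliser
of this subgroup, and these involutions are transpositions (helper12).
-/

set_option autoImplicit false
set_option maxRecDepth 100000

namespace Cfsg.Agent.Lib.Helper12.OutFi22.Central

open Cfsg Cfsg.Spor Cfsg.Agent.Lib.Helper12.TC Cfsg.Agent.Lib.Helper12.TC.Fi22o3510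
  Cfsg.Agent.Lib.Helper12.TC.Fi22Pres Cfsg.Agent.Lib.Helper12.Ord
  Cfsg.Agent.Lib.Helper12.Ord.Fi22Simple Cfsg.Agent.Lib.Helper12.OutFi22.Base
  Cfsg.Agent.Lib.Helper12.OutFi22.Transp Cfsg.Agent.Lib.Helper12.OutFi22.P14
  Cfsg.Agent.Lib.Helper12.OutFi22.SylData Cfsg.Agent.Lib.Helper12.OutFi22.FinalData
  Cfsg.Agent.Lib.Helper12.OutFi22.SylChk Cfsg.Agent.Lib.Helper12.OutFi22.Tau
  Cfsg.Agent.Lib.Helper12.OutFi22.Syl

open scoped Pointwise

theorem TL_ok (y : PresentedGroup R) (hc : ∀ w ∈ TL, y * wprod uu w = wprod uu w * y) (i : ℕ) :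
    (∀ s ∈ TL.getD i [], s < 21) ∧ y * wprod uu (TL.getD i []) = wprod uu (TL.getD i []) * y := by
  by_cases hi : i < TL.length
  · rw [List.getD_eq_getElem _ _ hi]
    have hm : TL[i] ∈ TL := List.getElem_mem hi
    refine ⟨?_, hc _ hm⟩
    have hall : ∀ w ∈ TL, ∀ s ∈ w, s < 21 := by decide
    exact hall _ hm
  · rw [List.getD_eq_default _ _ (not_lt.mp hi)]
    refine ⟨fun s hs => absurd hs List.not_mem_nil, ?_⟩
    rw [wprod_nil, one_mul, mul_one]

/-- an element which commutes with the letters and fixes the first point fixes all points -/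
theorem fix_all {y : PresentedGroup R} (hc : ∀ w ∈ TL, y * wprod uu w = wprod uu w * y) (h0 : act y 0 = 0) :
    ∀ p < cN, act y p = p := by
  have key : ∀ r p, p < cN → Nat.shiftRight (tab16 DN p) 3 = r → act y p = p := by
    intro r
    induction r using Nat.strong_induction_on with
    | _ r ih =>
      intro p hp hr
      have h1 := (allBelowK_iff _ _).mp trans_ok p hp
      unfold SylChk.transK at h1
      rw [Bool.or_eq_true] at h1
      rcases h1 with h1 | h1
      · rw [Nat.eq_of_beq_eq_true h1]
        exact h0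
      · rw [forceN_eq, forceN_eq] at h1
        have hlt : Nat.shiftRight (tab16 DN (Fn.applyW TT (TL.getD (Nat.land (tab16 DN p) 7) []) p)) 3 <
            Nat.shiftRight (tab16 DN p) 3 := Nat.le_of_ble_eq_true h1
        obtain ⟨hw, hcw⟩ := TL_ok y hc (Nat.land (tab16 DN p) 7)
        have hp' : Fn.applyW TT (TL.getD (Nat.land (tab16 DN p) 7) []) p < cN := by
          rw [← act_word _ hw hp]
          exact act_lt _ hp
        rw [hr] at hlt
        have h2 := ih _ hlt _ hp' rfl
        rw [← act_word _ hw hp, ← act_mul, hcw, act_mul] at h2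
        exact act_injective _ h2
  intro p hp
  exact key _ p hp rfl

theorem act_pow_fix {x : PresentedGroup R} {r : ℕ} (h : act x r = r) (j : ℕ) : act (x ^ j) r = r := by
  induction j with
  | zero => rw [pow_zero, act_one]
  | succ j ih => rw [pow_succ, act_mul, h, ih]

theorem hq2 : Nat.beq (TT 0 (qp 2)) (qp 2) = true ∧ Nat.beq (TT 1 (qp 2)) (qp 2) = false ∧
    Nat.beq (T14 1 0) 0 = true ∧ Nat.beq (T14 2 0) 0 = true ∧ Nat.beq (Fn.applyW T14 sg 0) 0 = true := by
  decide +kernel

theorem act14_uu {k : ℕ} (hk : k < 9) {p : ℕ} (hp : p < n14) : act14 (uu k) p = T14 k p := by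
  have h := act14_word [k] (by
    intro s hs
    rw [List.mem_singleton.mp hs]
    exact hk) hp
  rw [wprod_cons, wprod_nil, mul_one, ← uu_eq_v k hk] at h
  exact h

/-- the elements of the centraliser which fix the three points are the powers of the element of order seven -/
theorem stab_eq {y : PresentedGroup R} (hy : y * sigma = sigma * y) (f0 : act y 0 = 0) (f2 : act y 2 = 2) :
    ∃ j < 7, y = sigma ^ j := by
  obtain ⟨hq2a, hq2b, h14b, h14c, h14s⟩ := hq2
  have hc0 : y * uu 0 = uu 0 * y := (comm_iff (isT_gen (show 0 < 9 by norm_num)) y).mpr f0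
  have hc1 : y * uu 1 = uu 1 * y := (comm_iff (isT_gen (show 1 < 9 by norm_num)) y).mpr f2
  -- the first of the `14080` points is fixed
  have hz : act14 y 0 = 0 := by
    have hzlt : act14 y 0 < n14 := act14_lt y hN14
    have hb : act14 (uu 1) 0 = 0 := by
      rw [act14_uu (by norm_num) hN14]
      exact Nat.eq_of_beq_eq_true h14b
    have hs : act14 sigma 0 = 0 := by
      unfold sigma
      rw [wprod_uu_eq sg sg_lt, act14_word sg sg_lt hN14]
      exact Nat.eq_of_beq_eq_true h14s
    have hb' := act14_conj_fix (y := y) hb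
    have hs' := act14_conj_fix (y := y) hs
    rw [conj_eq_of_comm hc1, act14_uu (by norm_num) hzlt] at hb'
    rw [conj_eq_of_comm hy] at hs'
    unfold sigma at hs'
    rw [wprod_uu_eq sg sg_lt, act14_word sg sg_lt hzlt] at hs'
    have h1 := (allBelowK_iff _ _).mp scan14 _ hzlt
    rw [hb', hs', Nat.beq_refl, Bool.and_self, Bool.not_true, Bool.false_or] at h1
    exact Nat.eq_of_beq_eq_true h1
  -- the image of the point of the third generator
  have hT : IsT (y * uu 2 * y⁻¹) (act y (qp 2)) := isT_conj (isT_gen (show 2 < 9 by norm_num)) y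
  have hplt : act y (qp 2) < cN := isT_lt hT
  have hpa : Nat.beq (TT 0 (act y (qp 2))) (act y (qp 2)) = true := by
    rw [TT_eq_iff (by norm_num) hplt, ← comm_iff hT, conj_comm hc0, comm_iff (isT_gen (show 2 < 9 by norm_num)),
      ← TT_eq_iff (by norm_num) (qp_lt 2 (by norm_num))]
    exact hq2a
  have hpb : Nat.beq (TT 1 (act y (qp 2))) (act y (qp 2)) = false := by
    cases hb : Nat.beq (TT 1 (act y (qp 2))) (act y (qp 2))
    · rfl
    · exfalso
      rw [TT_eq_iff (by norm_num) hplt, ← comm_iff hT, conj_comm hc1,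
        comm_iff (isT_gen (show 2 < 9 by norm_num)), ← TT_eq_iff (by norm_num) (qp_lt 2 (by norm_num)), hq2b] at hb
      exact Bool.noConfusion hb
  have hA : act y (qp 2) ∈ LA := by
    have h1 := (allBelowK_iff _ _).mp scanA _ hplt
    rw [hpa, hpb, Bool.not_false, Bool.and_self, Bool.not_true, Bool.false_or] at h1
    exact (memK_iff _ _).mp h1
  obtain ⟨e, he, hep⟩ := LA_sub _ hA
  obtain ⟨d1, d2, d3, d4⟩ := dwa_ok e he
  rw [hep] at d3
  have hdw : ∀ s ∈ dwa (act y (qp 2)), s < 9 := by
    rw [d3]
    intro s hs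
    rw [List.mem_append, List.mem_cons, List.mem_reverse] at hs
    rcases hs with hs | rfl | hs
    · exact d1 s hs
    · exact d2
    · exact d1 s hs
  have hTw : IsT (wprod uu (dwa (act y (qp 2)))) (act y (qp 2)) := by
    have := isT_word e.2.2 d1 d2
    rw [d4, hep, ← d3] at this
    exact this
  have heq : y * uu 2 * y⁻¹ = wprod uu (dwa (act y (qp 2))) := elt_unique hT hTw
  -- the transposition fixes the first of the `14080` points
  have hB : act y (qp 2) ∈ LB := by
    have hc : act14 (uu 2) 0 = 0 := by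
      rw [act14_uu (by norm_num) hN14]
      exact Nat.eq_of_beq_eq_true h14c
    have hc' := act14_conj_fix (y := y) hc
    rw [hz, heq, wprod_uu_eq _ hdw, act14_word _ hdw hN14] at hc'
    have h1 := (allListK_iff _ _).mp filtB _ hA
    rw [hc', Nat.beq_refl, Bool.not_true, Bool.false_or] at h1
    exact (memK_iff _ _).mp h1
  have hV : act y (qp 2) ∈ LV := by
    have h1 := (allListK_iff _ _).mp killB _ hB
    rw [Bool.or_eq_true] at h1
    rcases h1 with h1 | h1
    · exact (memK_iff _ _).mp h1
    · exact (kill_sound h1 hdw hy f0 hc0 hc1 heq).elim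
  obtain ⟨j, hj, hjp⟩ := LV_ok _ hV
  refine ⟨j, hj, ?_⟩
  have hpj : act (sigma ^ j) (qp 2) = act y (qp 2) := by
    unfold sigma
    rw [← wprod_wpow, act_word _ (lt21 (wpow_lt sg sg_lt j)) (qp_lt 2 (by norm_num))]
    exact hjp
  -- the quotient fixes all points
  have hcs : Commute ((sigma ^ j)⁻¹ * y) sigma :=
    (((Commute.refl sigma).pow_left j).inv_left).mul_left hy
  have g0 : act ((sigma ^ j)⁻¹ * y) 0 = 0 := by
    rw [act_mul, f0]
    exact act_inv_of_fix (act_pow_fix (sigma_fix (by norm_num)) j)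
  have g1 : act ((sigma ^ j)⁻¹ * y) 2 = 2 := by
    rw [act_mul, f2]
    exact act_inv_of_fix (act_pow_fix (sigma_fix (by norm_num)) j)
  have g2 : act ((sigma ^ j)⁻¹ * y) (qp 2) = qp 2 := by
    rw [act_mul, ← hpj, act_inv_act]
  have hall : ∀ w ∈ TL, (sigma ^ j)⁻¹ * y * wprod uu w = wprod uu w * ((sigma ^ j)⁻¹ * y) := by
    intro w hw
    simp only [TL, List.mem_cons, List.not_mem_nil, or_false] at hw
    rcases hw with rfl | rfl | rfl | rfl | rfl
    · exact hcs
    · rw [sigma_inv]
      exact hcs.inv_right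
    · rw [wprod_single]
      exact (comm_iff (isT_gen (show 0 < 9 by norm_num)) _).mpr g0
    · rw [wprod_single]
      exact (comm_iff (isT_gen (show 1 < 9 by norm_num)) _).mpr g1
    · rw [wprod_single]
      exact (comm_iff (isT_gen (show 2 < 9 by norm_num)) _).mpr g2
  have h1 := eq_one_of_act (fix_all hall g0)
  have h2 : y = sigma ^ j * ((sigma ^ j)⁻¹ * y) := by group
  rw [h2, h1, mul_one]

theorem isT_aba : IsT (wprod uu [0, 1, 0]) (Fn.applyW TT [0] (qp 1)) :=
  isT_word [0] (by decide) (show 1 < 9 by norm_num)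

/-- the involutions of the centraliser of the element of order seven are transpositions -/
theorem isT_of_invol {t : PresentedGroup R} (hc : t * sigma = sigma * t) (hsq : t * t = 1) (hne : t ≠ 1) :
    ∃ p, IsT t p := by
  obtain ⟨s, hs, a0, _, a2⟩ := exists_adjust hc
  have hs2 := SL_lt s hs
  have hs9 : ∀ k ∈ s, k < 9 := fun k hk => lt_trans (hs2 k hk) (by norm_num)
  have hy : wprod uu s * t * sigma = sigma * (wprod uu s * t) := by
    rw [mul_assoc, hc, ← mul_assoc, comm_word_sigma s hs2, mul_assoc]
  obtain ⟨j, hj, hyj⟩ := stab_eq hy a0 a2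
  have ht : t = wprod uu (s.reverse ++ wpow sg j) := by
    rw [wprod_append, wprod_reverse_lt s hs9, wprod_wpow]
    show t = (wprod uu s)⁻¹ * sigma ^ j
    rw [← hyj]
    group
  have hW21 : ∀ k ∈ s.reverse ++ wpow sg j, k < 21 := by
    intro k hk
    rcases List.mem_append.mp hk with h | h
    · exact lt_trans (hs9 k (List.mem_reverse.mp h)) (by norm_num)
    · exact lt_trans (wpow_lt sg sg_lt j k h) (by norm_num)
  rcases inv_ok s hs j hj with ⟨rfl, h⟩ | ⟨t0, ht0, hmv⟩
  · have e0 : wpow sg 0 = [] := rfl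
    rw [e0, List.append_nil] at ht
    rcases h with rfl | rfl | rfl | rfl
    · exact absurd ht hne
    · rw [ht]
      exact ⟨_, by
        show IsT (wprod uu [1]) (qp 1)
        rw [wprod_single]
        exact isT_gen (by norm_num)⟩
    · rw [ht]
      exact ⟨_, by
        show IsT (wprod uu [0]) (qp 0)
        rw [wprod_single]
        exact isT_gen (by norm_num)⟩
    · rw [ht]
      exact ⟨_, isT_aba⟩
  · exfalso
    apply hmv
    have h1 : wprod uu ((s.reverse ++ wpow sg j) ++ (s.reverse ++ wpow sg j)) = 1 := by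
      rw [wprod_append, ← ht, hsq]
    have h2 := act_word ((s.reverse ++ wpow sg j) ++ (s.reverse ++ wpow sg j)) (by
      intro k hk
      rcases List.mem_append.mp hk with h | h
      · exact hW21 k h
      · exact hW21 k h) (show t0 < cN from lt_trans ht0 (by decide))
    rw [h1, act_one] at h2
    exact h2.symm

end Cfsg.Agent.Lib.Helper12.OutFi22.Central
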