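import Cfsg.Agent.Lib.Helper12.OutFi22.Transp

/-!
The certificate of an orbit of a stabiliser of points of the generators of the presented group Fi22: every candidate
other than the root is moved to a candidate of smaller rank by a word which fixes the points of the stabiliser
(helper12).
-/

set_option autoImplicit false
set_option maxRecDepth 100000

namespace Cfsg.Agent.Lib.Helper12.OutFi22.Cert

open Cfsg.Spor Cfsg.Agent.Lib.Helper12.TC Cfsg.Agent.Lib.Helper12.TC.Fi22o3510
  Cfsg.Agent.Lib.Helper12.TC.Fi22Pres Cfsg.Agent.Lib.Helper12.Ord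
  Cfsg.Agent.Lib.Helper12.Ord.Fi22Simple Cfsg.Agent.Lib.Helper12.OutFi22.Base
  Cfsg.Agent.Lib.Helper12.OutFi22.Transp

/-- the check of a point: the entry of the table is `16 * rank + index of the word` -/
noncomputable def chkStep (S : List ℕ) (n : ℕ) (gw : ℕ → List ℕ) (D : ℕ → ℕ) (p : ℕ) : Bool :=
  !(cand S n p) || (Nat.beq p (qp n) ||
    forceN (D p) (fun e => forceN (Fn.applyW TT (gw (Nat.land e 15)) p) (fun p' =>
      cand S n p' && Nat.blt (Nat.shiftRight (D p') 4) (Nat.shiftRight e 4))))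

/-- the words fix the points of the list -/
def GoodWords (S : List ℕ) (gw : ℕ → List ℕ) : Prop :=
  ∀ i < 16, (∀ s ∈ gw i, s < 21) ∧ ∀ k ∈ S, Fn.applyW TT (gw i) (qp k) = qp k

theorem reach_of_chk (S : List ℕ) (n : ℕ) (gw : ℕ → List ℕ) (D : ℕ → ℕ) (hS : ∀ k ∈ S, k < 9)
    (hg : GoodWords S gw) (h : ∀ p < cN, chkStep S n gw D p = true) :
    ∀ p < cN, cand S n p = true → Reach S n p := by
  have key : ∀ r p, p < cN → cand S n p = true → Nat.shiftRight (D p) 4 = r → Reach S n p := by
    intro r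
    induction r using Nat.strong_induction_on with
    | _ r ih =>
      intro p hp hc hr
      have h1 := h p hp
      unfold chkStep at h1
      rw [hc, Bool.not_true, Bool.false_or, Bool.or_eq_true] at h1
      rcases h1 with h1 | h1
      · have e : p = qp n := Nat.eq_of_beq_eq_true h1
        rw [e]
        exact ⟨1, fun k _ => act_one _, act_one _⟩
      · rw [forceN_eq, forceN_eq, Bool.and_eq_true] at h1
        obtain ⟨hc', hlt⟩ := h1
        have hlt' : Nat.shiftRight (D (Fn.applyW TT (gw (Nat.land (D p) 15)) p)) 4 < Nat.shiftRight (D p) 4 :=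
          Nat.le_of_ble_eq_true hlt
        have hi : Nat.land (D p) 15 < 16 := Nat.lt_succ_of_le Nat.and_le_right
        obtain ⟨hw1, hw2⟩ := hg _ hi
        have hp' : Fn.applyW TT (gw (Nat.land (D p) 15)) p < cN := by
          rw [← act_word _ hw1 hp]
          exact act_lt _ hp
        rw [hr] at hlt'
        obtain ⟨g', hg1, hg2⟩ := ih _ hlt' _ hp' hc' rfl
        refine ⟨(wprod uu (gw (Nat.land (D p) 15)))⁻¹ * g', ?_, ?_⟩
        · intro k hk
          rw [act_mul, hg1 k hk]
          apply act_inv_of_fix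
          rw [act_word _ hw1 (qp_lt k (hS k hk))]
          exact hw2 k hk
        · rw [act_mul, hg2, ← act_word _ hw1 hp, act_inv_act]
  intro p hp hc
  exact key _ p hp hc rfl

/-- the points form one orbit of the group -/
theorem reach_nil (n : ℕ) (hn : n < 9) : ∀ p < cN, cand [] n p = true → Reach [] n p := by
  intro p hp _
  obtain ⟨Φ, hΦ⟩ := rho_equiv
  have hsurj : ∀ q : Fin cN, ∃ γ : PresentedGroup R, rho γ ⟨0, hN0⟩ = q := by
    intro q
    obtain ⟨c, hc⟩ := Φ.surjective q
    induction c using QuotientGroup.induction_on with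
    | H γ => exact ⟨γ, by rw [← hΦ, hc]⟩
  obtain ⟨γ, hγ⟩ := hsurj ⟨p, hp⟩
  obtain ⟨δ, hδ⟩ := hsurj ⟨qp n, qp_lt n hn⟩
  refine ⟨γ * δ⁻¹, fun k hk => absurd hk List.not_mem_nil, ?_⟩
  have h1 : act δ 0 = qp n := by rw [act_of_lt _ hN0, hδ]
  have h2 : act γ 0 = p := by rw [act_of_lt _ hN0, hγ]
  rw [act_mul, ← h1, act_inv_act, h2]

end Cfsg.Agent.Lib.Helper12.OutFi22.Cert
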