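import Cfsg.Agent.Lib.Helper12.OutFi22.CertData

/-!
The checks of the certificates of the steps of the chain for the presented group Fi22 (generated, helper12).
-/

set_option autoImplicit false
set_option maxRecDepth 100000

namespace Cfsg.Agent.Lib.Helper12.OutFi22.CertChk

open Cfsg.Spor Cfsg.Agent.Lib.Helper12.TC Cfsg.Agent.Lib.Helper12.TC.Fi22o3510
  Cfsg.Agent.Lib.Helper12.TC.Fi22Pres Cfsg.Agent.Lib.Helper12.Ord
  Cfsg.Agent.Lib.Helper12.Ord.Fi22Simple Cfsg.Agent.Lib.Helper12.OutFi22.Base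
  Cfsg.Agent.Lib.Helper12.OutFi22.Transp Cfsg.Agent.Lib.Helper12.OutFi22.Cert
  Cfsg.Agent.Lib.Helper12.OutFi22.CertData

theorem chk1 : allBelowK 3510 (fun p => chkStep [3] 7 gw1 (dt 0) p) = true := by
  decide +kernel

theorem chk2 : allBelowK 3510 (fun p => chkStep [7, 3] 8 gw2 (dt 1) p) = true := by
  decide +kernel

theorem chk3 : allBelowK 3510 (fun p => chkStep [8, 7, 3] 2 gw3 (dt 2) p) = true := by
  decide +kernel

end Cfsg.Agent.Lib.Helper12.OutFi22.CertChk
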