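import Cfsg.Agent.Lib.Helper12.OutFi22.FinalData

/-!
The last step of the chain for the presented group Fi22: an automorphism which preserves the class of the transpositions
and fixes the first four generators of the chain is the conjugation by an element of the group, or the product of such a
conjugation and the automorphism of the graph (helper12).
-/

set_option autoImplicit false
set_option maxRecDepth 100000

namespace Cfsg.Agent.Lib.Helper12.OutFi22.Final

open Cfsg.Spor Cfsg.Agent.Lib.Helper12.TC Cfsg.Agent.Lib.Helper12.TC.Fi22o3510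
  Cfsg.Agent.Lib.Helper12.TC.Fi22Pres Cfsg.Agent.Lib.Helper12.Ord
  Cfsg.Agent.Lib.Helper12.Ord.Fi22Simple Cfsg.Agent.Lib.Helper12.OutFi22.Base
  Cfsg.Agent.Lib.Helper12.OutFi22.Transp Cfsg.Agent.Lib.Helper12.OutFi22.Cert
  Cfsg.Agent.Lib.Helper12.OutFi22.Tau Cfsg.Agent.Lib.Helper12.OutFi22.FinalData

/-- the automorphisms which are inner up to the automorphism of the graph -/
def C (β : PresentedGroup R ≃* PresentedGroup R) : Prop :=
  (∃ g : PresentedGroup R, ∀ x, β x = g * x * g⁻¹) ∨ (∃ g : PresentedGroup R, ∀ x, β x = g * tauE x * g⁻¹)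

theorem good_C : Good C := by
  intro g β h
  rcases h with ⟨g', hg'⟩ | ⟨g', hg'⟩
  · left
    refine ⟨g * g', ?_⟩
    intro x
    have := hg' x
    rw [MulAut.mul_apply, MulAut.conj_apply] at this
    have e : β x = g * (g⁻¹ * β x * g⁻¹⁻¹) * g⁻¹ := by group
    rw [e, this]
    group
  · right
    refine ⟨g * g', ?_⟩
    intro x
    have := hg' x
    rw [MulAut.mul_apply, MulAut.conj_apply] at this
    have e : β x = g * (g⁻¹ * β x * g⁻¹⁻¹) * g⁻¹ := by group
    rw [e, this]
    group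

theorem dw_isT {p : ℕ} (hp : p ∈ L4 ++ (L1 ++ (L5 ++ (L0 ++ L6)))) :
    IsT (wprod uu (dw p)) p ∧ ∀ s ∈ dw p, s < 21 := by
  obtain ⟨e, he, rfl⟩ := lists_sub p hp
  obtain ⟨h1, h2, h3, h4⟩ := dw_ok e he
  rw [h3]
  constructor
  · have := isT_word e.2.2 h1 h2
    rw [h4] at this
    exact this
  · intro s hs
    rw [List.mem_append, List.mem_cons, List.mem_reverse] at hs
    rcases hs with hs | rfl | hs
    · exact lt_trans (h1 s hs) (by norm_num)
    · exact lt_trans h2 (by norm_num)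
    · exact lt_trans (h1 s hs) (by norm_num)

/-- the relations of two generators and of the points of their images -/
theorem pair_ok (β : PresentedGroup R ≃* PresentedGroup R) {n m : ℕ} (hn : n < 9) (hm : m < 9) {pn pm : ℕ}
    (hTm : IsT (β (uu m)) pm) (hd : β (uu n) = wprod uu (dw pn)) (hlt : ∀ s ∈ dw pn, s < 21) :
    (fixK pn pm == expK n m) = true := by
  apply bool_eq_of_iff
  unfold fixK expK
  have hpm := isT_lt hTm
  rw [TT_eq_iff hn (qp_lt m hm), ← comm_iff (isT_gen hm), ← comm_gen_iff β n m, comm_iff hTm, hd,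
    act_word _ hlt hpm]
  exact ⟨Nat.eq_of_beq_eq_true, fun h => by rw [h]; exact Nat.beq_refl _⟩

/-- the conjugation, or the product of the conjugation and the automorphism of the graph -/
noncomputable def twist (f : ℕ) (g : PresentedGroup R) : PresentedGroup R ≃* PresentedGroup R :=
  cond (Nat.beq f 0) (MulAut.conj g) (MulAut.conj g * tauE)

theorem twist_gen {f : ℕ} (hf : f < 2) (g : PresentedGroup R) {k : ℕ} (hk : k < 9) :
    IsT (twist f g (uu k)) (act g (tq f k)) := by
  interval_cases f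
  · show IsT (MulAut.conj g (uu k)) (act g (qp k))
    rw [MulAut.conj_apply]
    exact isT_conj (isT_gen hk) g
  · show IsT ((MulAut.conj g * tauE) (uu k)) (act g (qp (tn k)))
    rw [MulAut.mul_apply, MulAut.conj_apply, tauE_uu hk]
    exact isT_conj (isT_gen (tn_lt k hk)) g

theorem C_of_twist {f : ℕ} (hf : f < 2) (g : PresentedGroup R) (β : PresentedGroup R ≃* PresentedGroup R)
    (h : ∀ x, β x = twist f g x) : C β := by
  interval_cases f
  · left
    refine ⟨g, fun x => ?_⟩
    rw [h x]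
    show MulAut.conj g x = _
    rw [MulAut.conj_apply]
  · right
    refine ⟨g, fun x => ?_⟩
    rw [h x]
    show (MulAut.conj g * tauE) x = _
    rw [MulAut.mul_apply, MulAut.conj_apply]

theorem h9 : ∀ k ∈ S4, k < 9 := by decide

theorem tq_lt : ∀ f < 2, ∀ k < 9, tq f k < cN := by decide

theorem hne4 : ∀ k ∈ S4, qp k ≠ qp 4 := by decide
theorem hne1 : ∀ k ∈ S4, qp k ≠ qp 1 := by decide
theorem hne5 : ∀ k ∈ S4, qp k ≠ qp 5 := by decide
theorem hne0 : ∀ k ∈ S4, qp k ≠ qp 0 := by decide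
theorem hne6 : ∀ k ∈ S4, qp k ≠ qp 6 := by decide

theorem mem_of_scan {n : ℕ} {L : List ℕ} (hscan : allBelowK cN (fun p => !(cand S4 n p) || memK L p) = true)
    {p : ℕ} (hp : p < cN) (hc : cand S4 n p = true) : p ∈ L := by
  have := (allBelowK_iff _ _).mp hscan p hp
  rw [hc, Bool.not_true, Bool.false_or] at this
  exact (memK_iff _ _).mp this

/-- the last step -/
theorem final : Q C S4 := by
  intro β hP hfix
  have hS : ∀ k ∈ S4, k < 9 ∧ β (uu k) = uu k := fun k hk => ⟨h9 k hk, hfix k hk⟩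
  obtain ⟨p4, h4⟩ := hP _ _ (isT_gen (show 4 < 9 by norm_num))
  obtain ⟨p1, h1⟩ := hP _ _ (isT_gen (show 1 < 9 by norm_num))
  obtain ⟨p5, h5⟩ := hP _ _ (isT_gen (show 5 < 9 by norm_num))
  obtain ⟨p0, h0⟩ := hP _ _ (isT_gen (show 0 < 9 by norm_num))
  obtain ⟨p6, h6⟩ := hP _ _ (isT_gen (show 6 < 9 by norm_num))
  have m4 : p4 ∈ L4 := mem_of_scan scan4 (isT_lt h4) (cand_of_fix β S4 hS (by norm_num) hne4 h4)
  have m1 : p1 ∈ L1 := mem_of_scan scan1 (isT_lt h1) (cand_of_fix β S4 hS (by norm_num) hne1 h1)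
  have m5 : p5 ∈ L5 := mem_of_scan scan5 (isT_lt h5) (cand_of_fix β S4 hS (by norm_num) hne5 h5)
  have m0 : p0 ∈ L0 := mem_of_scan scan0 (isT_lt h0) (cand_of_fix β S4 hS (by norm_num) hne0 h0)
  have m6 : p6 ∈ L6 := mem_of_scan scan6 (isT_lt h6) (cand_of_fix β S4 hS (by norm_num) hne6 h6)
  obtain ⟨t4, l4⟩ := dw_isT (List.mem_append_left _ m4)
  obtain ⟨t1, l1⟩ := dw_isT (List.mem_append_right _ (List.mem_append_left _ m1))
  obtain ⟨t5, l5⟩ := dw_isT (List.mem_append_right _ (List.mem_append_right _ (List.mem_append_left _ m5)))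
  obtain ⟨t0, l0⟩ := dw_isT (List.mem_append_right _ (List.mem_append_right _ (List.mem_append_right _
    (List.mem_append_left _ m0))))
  have hd4 : β (uu 4) = wprod uu (dw p4) := elt_unique h4 t4
  have hd1 : β (uu 1) = wprod uu (dw p1) := elt_unique h1 t1
  have hd5 : β (uu 5) = wprod uu (dw p5) := elt_unique h5 t5
  have hd0 : β (uu 0) = wprod uu (dw p0) := elt_unique h0 t0
  have hF := final_ok
  unfold finalChk at hF
  have f1 := (allListK_iff _ _).mp ((allListK_iff _ _).mp hF p4 m4) p1 m1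
  beta_reduce at f1
  rw [pair_ok β (n := 4) (m := 1) (by norm_num) (by norm_num) h1 hd4 l4,
    Bool.not_true, Bool.false_or] at f1
  have f2 := (allListK_iff _ _).mp f1 p5 m5
  beta_reduce at f2
  rw [pair_ok β (n := 4) (m := 5) (by norm_num) (by norm_num) h5 hd4 l4,
    pair_ok β (n := 1) (m := 5) (by norm_num) (by norm_num) h5 hd1 l1,
    Bool.not_true, Bool.false_or, Bool.false_or] at f2
  have f3 := (allListK_iff _ _).mp f2 p0 m0
  beta_reduce at f3
  rw [pair_ok β (n := 4) (m := 0) (by norm_num) (by norm_num) h0 hd4 l4,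
    pair_ok β (n := 1) (m := 0) (by norm_num) (by norm_num) h0 hd1 l1,
    pair_ok β (n := 5) (m := 0) (by norm_num) (by norm_num) h0 hd5 l5,
    Bool.not_true, Bool.false_or, Bool.false_or, Bool.false_or] at f3
  have f4 := (allListK_iff _ _).mp f3 p6 m6
  beta_reduce at f4
  rw [pair_ok β (n := 4) (m := 6) (by norm_num) (by norm_num) h6 hd4 l4,
    pair_ok β (n := 1) (m := 6) (by norm_num) (by norm_num) h6 hd1 l1,
    pair_ok β (n := 5) (m := 6) (by norm_num) (by norm_num) h6 hd5 l5,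
    pair_ok β (n := 0) (m := 6) (by norm_num) (by norm_num) h6 hd0 l0,
    Bool.not_true, Bool.false_or, Bool.false_or, Bool.false_or, Bool.false_or] at f4
  unfold tupMem at f4
  obtain ⟨e, he, hm⟩ := (anyListK_iff _ _).mp f4
  simp only [Bool.and_eq_true] at hm
  obtain ⟨e1, e2, e3, e4, e5⟩ := hm
  have e1 := Nat.eq_of_beq_eq_true e1
  have e2 := Nat.eq_of_beq_eq_true e2
  have e3 := Nat.eq_of_beq_eq_true e3
  have e4 := Nat.eq_of_beq_eq_true e4
  have e5 := Nat.eq_of_beq_eq_true e5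
  obtain ⟨hw, hf, hfixS, g4, g1, g5, g0, g6⟩ := tup_ok e he
  have hw21 : ∀ s ∈ e.2.2.2.2.2.2, s < 21 := fun s hs => lt_trans (hw s hs) (by norm_num)
  apply C_of_twist hf (wprod uu e.2.2.2.2.2.2) β
  apply eq_of_gens
  intro k hk
  have key : ∀ {p : ℕ}, IsT (β (uu k)) p → Fn.applyW TT e.2.2.2.2.2.2 (tq e.2.2.2.2.2.1 k) = p →
      β (uu k) = twist e.2.2.2.2.2.1 (wprod uu e.2.2.2.2.2.2) (uu k) := by
    intro p hT hp
    have h2 := twist_gen hf (wprod uu e.2.2.2.2.2.2) hk
    rw [act_word _ hw21 (tq_lt _ hf k hk), hp] at h2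
    exact elt_unique hT h2
  have keyS : k ∈ S4 → β (uu k) = twist e.2.2.2.2.2.1 (wprod uu e.2.2.2.2.2.2) (uu k) := by
    intro hkS
    apply key (p := qp k)
    · rw [hfix k hkS]
      exact isT_gen hk
    · exact hfixS k hkS
  interval_cases k
  · exact key h0 (g0.trans e4)
  · exact key h1 (g1.trans e2)
  · exact keyS (by decide)
  · exact keyS (by decide)
  · exact key h4 (g4.trans e1)
  · exact key h5 (g5.trans e3)
  · exact key h6 (g6.trans e5)
  · exact keyS (by decide)
  · exact keyS (by decide)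

end Cfsg.Agent.Lib.Helper12.OutFi22.Final
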