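import Cfsg.Agent.Lib.Helper12.OutFi22.Transp

/-!
The automorphism of the presented group Fi22 which is induced by the automorphism of the graph of the generators: it
exchanges the two arms of length three (helper12).
-/

set_option autoImplicit false
set_option maxRecDepth 100000

namespace Cfsg.Agent.Lib.Helper12.OutFi22.Tau

open Cfsg.Spor Cfsg.Agent.Lib.Helper12.TC Cfsg.Agent.Lib.Helper12.TC.Fi22o3510
  Cfsg.Agent.Lib.Helper12.TC.Fi22Pres Cfsg.Agent.Lib.Helper12.Ord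
  Cfsg.Agent.Lib.Helper12.Ord.Fi22Simple Cfsg.Agent.Lib.Helper12.OutFi22.Base
  Cfsg.Agent.Lib.Helper12.OutFi22.Transp

/-- the automorphism of the graph -/
def tg : Fi22.Gen → Fi22.Gen
  | .a => .g
  | .b => .f
  | .c => .e
  | .d => .d
  | .e => .c
  | .f => .b
  | .g => .a
  | .h => .h
  | .i => .i

/-- the automorphism of the graph on the numbers of the generators -/
def tn (k : ℕ) : ℕ := [6, 5, 4, 3, 2, 1, 0, 7, 8].getD k 0

theorem tg_tg (y : Fi22.Gen) : tg (tg y) = y := by cases y <;> rfl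

theorem tg_gen : ∀ k < 9, tg (gen k) = gen (tn k) := by decide

theorem tn_lt : ∀ k < 9, tn k < 9 := by decide

theorem tg_label (x y : Fi22.Gen) : coxLabel Fi22.edges (tg x) (tg y) = coxLabel Fi22.edges x y := by
  cases x <;> cases y <;> rfl

/-- the images of the generators -/
noncomputable def tf (y : Fi22.Gen) : PresentedGroup R := PresentedGroup.mk R (FreeGroup.of (tg y))

theorem lift_tf_of (y : Fi22.Gen) : FreeGroup.lift tf (FreeGroup.of y) = PresentedGroup.mk R (FreeGroup.of (tg y)) := by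
  rw [FreeGroup.lift_apply_of]
  rfl

theorem lift_tf_gen {k : ℕ} (hk : k < 9) : FreeGroup.lift tf (FreeGroup.of (gen k)) = v (tn k) := by
  rw [lift_tf_of, tg_gen k hk]
  rfl

/-- a word which fixes all points is trivial -/
theorem wprod_v_eq_one (w : List ℕ) (hw : ∀ s ∈ w, s < 9)
    (h : allBelowK cN (fun p => Nat.beq (Fn.applyW TT w p) p) = true) : wprod v w = 1 := by
  apply Fi22Order.rho_injective
  rw [map_one]
  ext i
  rw [Fn.rho_word v rho rho_v w hw]
  exact Nat.eq_of_beq_eq_true ((allBelowK_iff _ _).mp h i.val i.isLt)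

/-- the images of the further relators -/
def tw0 : List ℕ := [3, 4, 5, 3, 2, 1, 3, 7, 8, 3, 4, 5, 3, 2, 1, 3, 7, 8, 3, 4, 5, 3, 2, 1, 3, 7, 8, 3, 4, 5, 3, 2, 1, 3, 7, 8, 3, 4, 5, 3, 2, 1, 3, 7, 8, 3, 4, 5, 3, 2, 1, 3, 7, 8, 3, 4, 5, 3, 2, 1, 3, 7, 8, 3, 4, 5, 3, 2, 1, 3, 7, 8, 3, 4, 5, 3, 2, 1, 3, 7, 8, 3, 4, 5, 3, 2, 1, 3, 7, 8]
/-- the images of the further relators -/
def tw1 : List ℕ := [6, 5, 4, 3, 2, 1, 7, 6, 5, 4, 3, 2, 1, 7, 6, 5, 4, 3, 2, 1, 7, 6, 5, 4, 3, 2, 1, 7, 6, 5, 4, 3, 2, 1, 7, 6, 5, 4, 3, 2, 1, 7, 6, 5, 4, 3, 2, 1, 7, 6, 5, 4, 3, 2, 1, 7, 6, 5, 4, 3, 2, 1, 7]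
/-- the images of the further relators -/
def tw2 : List ℕ := [5, 4, 3, 2, 1, 0, 7, 5, 4, 3, 2, 1, 0, 7, 5, 4, 3, 2, 1, 0, 7, 5, 4, 3, 2, 1, 0, 7, 5, 4, 3, 2, 1, 0, 7, 5, 4, 3, 2, 1, 0, 7, 5, 4, 3, 2, 1, 0, 7, 5, 4, 3, 2, 1, 0, 7, 5, 4, 3, 2, 1, 0, 7]

theorem hmk0 : Fn.marksK TT cN [([3, 4, 5, 3, 2, 1, 3, 7, 8], 10)] = true := by decide +kernel

theorem hmk1 : Fn.marksK TT cN [([6, 5, 4, 3, 2, 1, 7], 9)] = true := by decide +kernel

theorem hmk2 : Fn.marksK TT cN [([5, 4, 3, 2, 1, 0, 7], 9)] = true := by decide +kernel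

theorem all_of_marksK {w : List ℕ} {k : ℕ} (h : Fn.marksK TT cN [(w, k)] = true) :
    allBelowK cN (fun p => Nat.beq (Fn.applyW TT (wpow w k) p) p) = true :=
  (allListK_iff _ _).mp (Fn.relsK_of_marksK h) (wpow w k) List.mem_cons_self

theorem tw0_one : wprod v tw0 = 1 := by
  have e : tw0 = wpow [3, 4, 5, 3, 2, 1, 3, 7, 8] 10 := by decide
  have hlt : ∀ s ∈ wpow [3, 4, 5, 3, 2, 1, 3, 7, 8] 10, s < 9 := by decide
  rw [e]
  exact wprod_v_eq_one _ hlt (all_of_marksK hmk0)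

theorem tw1_one : wprod v tw1 = 1 := by
  have e : tw1 = wpow [6, 5, 4, 3, 2, 1, 7] 9 := by decide
  have hlt : ∀ s ∈ wpow [6, 5, 4, 3, 2, 1, 7] 9, s < 9 := by decide
  rw [e]
  exact wprod_v_eq_one _ hlt (all_of_marksK hmk1)

theorem tw2_one : wprod v tw2 = 1 := by
  have e : tw2 = wpow [5, 4, 3, 2, 1, 0, 7] 9 := by decide
  have hlt : ∀ s ∈ wpow [5, 4, 3, 2, 1, 0, 7] 9, s < 9 := by decide
  rw [e]
  exact wprod_v_eq_one _ hlt (all_of_marksK hmk2)

theorem tw0_eq : (extraWords.getD 0 []).map tn = tw0 := by decide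

theorem tw1_eq : (extraWords.getD 1 []).map tn = tw1 := by decide

theorem tw2_eq : (extraWords.getD 2 []).map tn = tw2 := by decide

theorem wprod_map_tn (w : List ℕ) (hw : ∀ s ∈ w, s < 9) :
    wprod (fun i => FreeGroup.lift tf (FreeGroup.of (gen i))) w = wprod v (w.map tn) := by
  induction w with
  | nil => rfl
  | cons s l ih =>
    rw [wprod_cons, List.map_cons, wprod_cons, ih (fun t ht => hw t (List.mem_cons_of_mem _ ht)),
      lift_tf_gen (hw s List.mem_cons_self)]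

theorem extraWords_lt : ∀ b ∈ extraWords, ∀ s ∈ b, s < 9 := by decide

theorem lift_tf_rel : ∀ r ∈ R, FreeGroup.lift tf r = 1 := by
  intro r hr
  rcases hr with hr | hr
  · obtain ⟨x, _, y, _, rfl⟩ := hr
    rw [map_pow, map_mul, lift_tf_of, lift_tf_of, ← map_mul, ← map_pow]
    apply hmk
    left
    exact ⟨tg x, hnodes _, tg y, hnodes _, by rw [tg_label]⟩
  · have hsq' : ∀ y, FreeGroup.lift tf (FreeGroup.of y) * FreeGroup.lift tf (FreeGroup.of y) = 1 := by
      intro y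
      rw [lift_tf_of]
      exact hsq (tg y)
    refine ((hextra (FreeGroup.lift tf) hsq').mpr ?_) r hr
    intro b hb
    rw [wprod_map_tn b (extraWords_lt b hb)]
    have hb' : b = extraWords.getD 0 [] ∨ b = extraWords.getD 1 [] ∨ b = extraWords.getD 2 [] := by
      simp only [extraWords, List.mem_cons, List.not_mem_nil, or_false] at hb
      rcases hb with rfl | rfl | rfl
      · exact Or.inl rfl
      · exact Or.inr (Or.inl rfl)
      · exact Or.inr (Or.inr rfl)
    rcases hb' with rfl | rfl | rfl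
    · exact tw0_eq ▸ tw0_one
    · exact tw1_eq ▸ tw1_one
    · exact tw2_eq ▸ tw2_one

/-- the endomorphism which is induced by the automorphism of the graph -/
noncomputable def tauHom : PresentedGroup R →* PresentedGroup R := PresentedGroup.toGroup lift_tf_rel

theorem tauHom_of (y : Fi22.Gen) : tauHom (PresentedGroup.of y) = PresentedGroup.of (tg y) := by
  unfold tauHom
  rw [PresentedGroup.toGroup.of]
  rfl

theorem tauHom_comp : tauHom.comp tauHom = MonoidHom.id (PresentedGroup R) := by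
  apply PresentedGroup.ext
  intro y
  rw [MonoidHom.comp_apply, tauHom_of, tauHom_of, tg_tg]
  rfl

/-- the automorphism which is induced by the automorphism of the graph -/
noncomputable def tauE : PresentedGroup R ≃* PresentedGroup R :=
  MonoidHom.toMulEquiv tauHom tauHom tauHom_comp tauHom_comp

theorem tauE_apply (x : PresentedGroup R) : tauE x = tauHom x := rfl

theorem tauE_uu {k : ℕ} (hk : k < 9) : tauE (uu k) = uu (tn k) := by
  rw [tauE_apply, uu_gen k hk, uu_gen (tn k) (tn_lt k hk)]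
  have := tauHom_of (gen k)
  rw [tg_gen k hk] at this
  exact this

end Cfsg.Agent.Lib.Helper12.OutFi22.Tau
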