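import Cfsg.Agent.Lib.Helper12.OutFi22.Cert
import Cfsg.Agent.Lib.Helper12.OutFi22.Tau

/-!
The data and the checks of the last step of the chain for the presented group Fi22: the candidates for the points of the
images of the last five generators, the words of their transpositions, and the tuples which satisfy the relations, with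
words of elements which map the points of the generators, or of their images under the automorphism of the graph, to
the points of the tuple (generated, helper12).
-/

set_option autoImplicit false
set_option maxRecDepth 100000

namespace Cfsg.Agent.Lib.Helper12.OutFi22.FinalData

open Cfsg.Spor Cfsg.Agent.Lib.Helper12.TC Cfsg.Agent.Lib.Helper12.TC.Fi22o3510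
  Cfsg.Agent.Lib.Helper12.TC.Fi22Pres Cfsg.Agent.Lib.Helper12.Ord
  Cfsg.Agent.Lib.Helper12.Ord.Fi22Simple Cfsg.Agent.Lib.Helper12.OutFi22.Base
  Cfsg.Agent.Lib.Helper12.OutFi22.Transp Cfsg.Agent.Lib.Helper12.OutFi22.Cert
  Cfsg.Agent.Lib.Helper12.OutFi22.Tau

/-- the first four generators of the chain -/
def S4 : List ℕ := [2, 8, 7, 3]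

/-- the candidates for the point of the image of the generator `4` -/
def L4 : List ℕ := [37, 47, 64, 65, 82, 83, 105, 106, 108, 129, 130, 132, 166, 170, 204, 208, 253, 303, 724, 840, 925, 1073, 1238, 1302, 1429, 1493, 2827, 2838, 2855, 3414, 3472, 3477, 3485, 3490, 3506]
/-- the candidates for the point of the image of the generator `1` -/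
def L1 : List ℕ := [1, 2, 370, 442, 530, 620, 635, 732, 751, 848, 2837, 2853, 2862, 2881, 2893, 2940, 3113, 3151, 3211, 3212]
/-- the candidates for the point of the image of the generator `5` -/
def L5 : List ℕ := [0, 22, 28, 38, 48, 66, 84, 2854, 2882, 2922]
/-- the candidates for the point of the image of the generator `0` -/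
def L0 : List ℕ := [0, 22, 28, 38, 48, 66, 84, 2854, 2882, 2922]
/-- the candidates for the point of the image of the generator `6` -/
def L6 : List ℕ := [0, 22, 28, 38, 48, 66, 84, 2854, 2882, 2922]

/-- the points of the lists with a generator `k` and a word `w` which maps the point of `k` to the point -/
def dwL : List (ℕ × ℕ × List ℕ) := [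
   (0, 0, []),
   (1, 0, [1]),
   (2, 1, []),
   (22, 1, [4, 3, 7, 8, 2, 3, 7, 4, 3, 2]),
   (28, 0, [4, 3, 7, 8, 2, 3, 7, 4, 3, 2, 1]),
   (37, 1, [3, 7, 8, 2, 3, 7, 4, 3, 2]),
   (38, 1, [5, 4, 3, 7, 8, 2, 3, 7, 4, 3, 2]),
   (47, 0, [3, 7, 8, 2, 3, 7, 4, 3, 2, 1]),
   (48, 0, [5, 4, 3, 7, 8, 2, 3, 7, 4, 3, 2, 1]),
   (64, 1, [3, 7, 8, 2, 3, 7, 5, 4, 3, 2]),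
   (65, 1, [5, 4, 3, 7, 8, 2, 3, 7, 5, 4, 3, 2]),
   (66, 1, [6, 5, 4, 3, 7, 8, 2, 3, 7, 4, 3, 2]),
   (82, 0, [3, 7, 8, 2, 3, 7, 5, 4, 3, 2, 1]),
   (83, 0, [5, 4, 3, 7, 8, 2, 3, 7, 5, 4, 3, 2, 1]),
   (84, 0, [6, 5, 4, 3, 7, 8, 2, 3, 7, 4, 3, 2, 1]),
   (105, 1, [4, 3, 7, 8, 2, 3, 7, 5, 4, 3, 2]),
   (106, 1, [3, 7, 8, 2, 3, 7, 6, 5, 4, 3, 2]),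
   (108, 1, [6, 5, 4, 3, 7, 8, 2, 3, 7, 5, 4, 3, 2]),
   (129, 0, [4, 3, 7, 8, 2, 3, 7, 5, 4, 3, 2, 1]),
   (130, 0, [3, 7, 8, 2, 3, 7, 6, 5, 4, 3, 2, 1]),
   (132, 0, [6, 5, 4, 3, 7, 8, 2, 3, 7, 5, 4, 3, 2, 1]),
   (166, 1, [4, 3, 7, 8, 2, 3, 7, 6, 5, 4, 3, 2]),
   (170, 1, [6, 5, 4, 3, 7, 8, 2, 3, 7, 6, 5, 4, 3, 2]),
   (204, 0, [4, 3, 7, 8, 2, 3, 7, 6, 5, 4, 3, 2, 1]),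
   (208, 0, [6, 5, 4, 3, 7, 8, 2, 3, 7, 6, 5, 4, 3, 2, 1]),
   (253, 1, [5, 4, 3, 7, 8, 2, 3, 7, 6, 5, 4, 3, 2]),
   (303, 0, [5, 4, 3, 7, 8, 2, 3, 7, 6, 5, 4, 3, 2, 1]),
   (370, 2, [0, 1, 2, 3, 7, 8, 4, 3, 7, 5, 4, 3]),
   (442, 2, [1, 2, 3, 7, 8, 4, 3, 7, 5, 4, 3]),
   (530, 2, [0, 1, 2, 3, 7, 8, 4, 3, 7, 6, 5, 4, 3]),
   (620, 2, [1, 2, 3, 7, 8, 4, 3, 7, 6, 5, 4, 3]),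
   (635, 0, [4, 3, 7, 8, 5, 4, 3, 7, 6, 5, 4, 3, 2, 1]),
   (724, 0, [0, 1, 2, 3, 7, 8, 4, 3, 7, 5, 4, 3, 2, 1]),
   (732, 2, [0, 1, 2, 3, 7, 8, 5, 4, 3, 7, 6, 5, 4, 3]),
   (751, 1, [4, 3, 7, 8, 5, 4, 3, 7, 6, 5, 4, 3, 2]),
   (840, 0, [1, 2, 3, 7, 8, 4, 3, 7, 5, 4, 3, 2, 1]),
   (848, 2, [1, 2, 3, 7, 8, 5, 4, 3, 7, 6, 5, 4, 3]),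
   (925, 0, [0, 1, 2, 3, 7, 8, 4, 3, 7, 6, 5, 4, 3, 2, 1]),
   (1073, 0, [1, 2, 3, 7, 8, 4, 3, 7, 6, 5, 4, 3, 2, 1]),
   (1238, 0, [0, 1, 2, 3, 7, 8, 5, 4, 3, 7, 6, 5, 4, 3, 2, 1]),
   (1302, 0, [4, 1, 2, 3, 7, 8, 5, 4, 3, 7, 6, 5, 4, 3, 2, 1]),
   (1429, 0, [1, 2, 3, 7, 8, 5, 4, 3, 7, 6, 5, 4, 3, 2, 1]),
   (1493, 0, [4, 0, 1, 2, 3, 7, 8, 5, 4, 3, 7, 6, 5, 4, 3, 2, 1]),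
   (2827, 4, []),
   (2837, 0, [4, 3, 7, 8, 1, 2, 3, 7, 4, 3, 2, 1]),
   (2838, 4, [5]),
   (2853, 0, [5, 4, 3, 7, 8, 1, 2, 3, 7, 4, 3, 2, 1]),
   (2854, 5, []),
   (2855, 4, [6, 5]),
   (2862, 0, [2, 3, 7, 8, 1, 2, 3, 7, 4, 3, 2, 1]),
   (2881, 0, [6, 5, 4, 3, 7, 8, 1, 2, 3, 7, 4, 3, 2, 1]),
   (2882, 5, [6]),
   (2893, 0, [2, 3, 7, 8, 1, 2, 3, 7, 5, 4, 3, 2, 1]),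
   (2922, 6, []),
   (2940, 0, [2, 3, 7, 8, 1, 2, 3, 7, 6, 5, 4, 3, 2, 1]),
   (3113, 2, [2, 3, 7, 8, 4, 3, 7, 5, 4, 3]),
   (3151, 2, [2, 3, 7, 8, 4, 3, 7, 6, 5, 4, 3]),
   (3211, 2, [2, 3, 7, 8, 5, 4, 3, 7, 6, 5, 4, 3]),
   (3212, 2, [4, 3, 7, 8, 5, 4, 3, 7, 6, 5, 4, 3]),
   (3414, 0, [3, 7, 8, 2, 3, 7, 4, 5, 3, 4, 2, 3, 7, 8, 3, 7, 4, 5, 3, 4, 1, 2, 3, 7, 6, 5, 4, 3, 2, 1]),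
   (3472, 0, [4, 3, 7, 8, 2, 3, 7, 4, 5, 3, 4, 2, 3, 7, 8, 3, 4, 5, 2, 3, 4, 1, 2, 3, 7, 6, 5, 4, 3, 2, 1]),
   (3477, 0, [3, 7, 8, 2, 3, 7, 6, 4, 5, 3, 4, 2, 3, 7, 8, 3, 4, 5, 2, 3, 4, 1, 2, 3, 7, 6, 5, 4, 3, 2, 1]),
   (3485, 0, [3, 7, 8, 4, 3, 7, 1, 2, 3, 4, 0, 1, 2, 3, 7, 8, 3, 4, 5, 2, 3, 4, 1, 2, 3, 7, 6, 5, 4, 3, 2, 1]),
   (3490, 0, [3, 7, 8, 2, 3, 7, 1, 2, 3, 4, 0, 1, 2, 3, 7, 8, 3, 4, 5, 2, 3, 4, 1, 2, 3, 7, 6, 5, 4, 3, 2, 1]),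
   (3506, 0, [3, 7, 8, 2, 3, 7, 4, 5, 3, 4, 2, 3, 7, 8, 3, 4, 5, 2, 3, 4, 1, 2, 3, 7, 6, 5, 4, 3, 2, 1])]

/-- the word of the transposition of a point of the lists -/
def dw (p : ℕ) : List ℕ :=
  @List.rec (ℕ × ℕ × List ℕ) (fun _ => List ℕ) []
    (fun e _ ih => cond (Nat.beq e.1 p) (e.2.2 ++ e.2.1 :: e.2.2.reverse) ih) dwL

/-- the test of the membership in a list -/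
def memK (L : List ℕ) (p : ℕ) : Bool := anyListK L (fun q => Nat.beq q p)

theorem memK_iff (L : List ℕ) (p : ℕ) : memK L p = true ↔ p ∈ L := by
  unfold memK
  rw [anyListK_iff]
  constructor
  · rintro ⟨q, hq, h⟩
    rw [← Nat.eq_of_beq_eq_true h]
    exact hq
  · intro h
    exact ⟨p, h, Nat.beq_refl p⟩

theorem dw_ok : ∀ e ∈ dwL, (∀ s ∈ e.2.2, s < 9) ∧ e.2.1 < 9 ∧ dw e.1 = e.2.2 ++ e.2.1 :: e.2.2.reverse ∧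
    Fn.applyW TT e.2.2 (qp e.2.1) = e.1 := by
  decide +kernel

theorem lists_sub : ∀ p ∈ L4 ++ (L1 ++ (L5 ++ (L0 ++ L6))), ∃ e ∈ dwL, e.1 = p := by decide +kernel

/-- the transposition of the first point fixes the second point -/
noncomputable def fixK (p q : ℕ) : Bool := Nat.beq (Fn.applyW TT (dw p) q) q

/-- the generator `n` fixes the point of the generator `m` -/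
noncomputable def expK (n m : ℕ) : Bool := Nat.beq (TT n (qp m)) (qp m)

/-- the point of a generator or of its image under the automorphism of the graph -/
def tq (f k : ℕ) : ℕ := cond (Nat.beq f 0) (qp k) (qp (tn k))

/-- the tuples which satisfy the relations with a mark and a word -/
noncomputable def tupL : List (ℕ × ℕ × ℕ × ℕ × ℕ × ℕ × List ℕ) := [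
   (37, 2, 38, 28, 2922, 0, [4, 3, 7, 8, 2, 3, 7, 4, 3, 2, 1, 2, 3, 4, 7, 3, 2, 8, 7, 3, 4]),
   (37, 2, 66, 28, 2922, 0, [4, 3, 7, 8, 2, 3, 7, 4, 3, 2, 1, 2, 3, 4, 7, 3, 2, 8, 7, 3, 4, 6]),
   (37, 2837, 38, 28, 2922, 0, [4, 3, 7, 8, 2, 3, 7, 4, 3, 2, 1, 2, 3, 4, 7, 3, 2, 8, 7, 3, 4, 0]),
   (37, 2837, 66, 28, 2922, 0, [4, 3, 7, 8, 2, 3, 7, 4, 3, 2, 1, 2, 3, 4, 7, 3, 2, 8, 7, 3, 4, 6, 0]),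
   (37, 3113, 0, 2922, 28, 1, [4, 3, 7, 8, 2, 3, 7, 4, 3, 2, 1, 2, 3, 4, 7, 3, 2, 8, 7, 3, 4, 2, 3, 7, 8, 1, 2, 3, 7, 4, 3, 2, 1, 0, 1, 2, 3, 4, 7, 3, 2, 1, 8, 7, 3, 2, 4, 3, 7, 8, 1, 2, 3, 7, 4, 3, 2, 1, 0, 1, 2, 3, 4, 7, 3, 2, 1, 8, 7, 3, 4]),
   (37, 3113, 22, 2922, 28, 1, [4, 3, 7, 8, 2, 3, 7, 4, 3, 2, 1, 2, 3, 4, 7, 3, 2, 8, 7, 3, 4, 0, 2, 3, 7, 8, 1, 2, 3, 7, 4, 3, 2, 1, 0, 1, 2, 3, 4, 7, 3, 2, 1, 8, 7, 3, 2, 4, 3, 7, 8, 1, 2, 3, 7, 4, 3, 2, 1, 0, 1, 2, 3, 4, 7, 3, 2, 1, 8, 7, 3, 4]),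
   (37, 3151, 0, 2922, 28, 1, [4, 3, 7, 8, 2, 3, 7, 4, 3, 2, 1, 2, 3, 4, 7, 3, 2, 8, 7, 3, 4, 6, 2, 3, 7, 8, 1, 2, 3, 7, 4, 3, 2, 1, 0, 1, 2, 3, 4, 7, 3, 2, 1, 8, 7, 3, 2, 4, 3, 7, 8, 1, 2, 3, 7, 4, 3, 2, 1, 0, 1, 2, 3, 4, 7, 3, 2, 1, 8, 7, 3, 4]),
   (37, 3151, 22, 2922, 28, 1, [4, 3, 7, 8, 2, 3, 7, 4, 3, 2, 1, 2, 3, 4, 7, 3, 2, 8, 7, 3, 4, 6, 0, 2, 3, 7, 8, 1, 2, 3, 7, 4, 3, 2, 1, 0, 1, 2, 3, 4, 7, 3, 2, 1, 8, 7, 3, 2, 4, 3, 7, 8, 1, 2, 3, 7, 4, 3, 2, 1, 0, 1, 2, 3, 4, 7, 3, 2, 1, 8, 7, 3, 4]),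
   (47, 1, 48, 22, 2922, 0, [4, 3, 7, 8, 2, 3, 7, 4, 3, 2, 1, 0, 1, 2, 3, 4, 7, 3, 2, 8, 7, 3, 4, 0]),
   (47, 1, 84, 22, 2922, 0, [4, 3, 7, 8, 2, 3, 7, 4, 3, 2, 1, 0, 1, 2, 3, 4, 7, 3, 2, 8, 7, 3, 4, 6, 0]),
   (47, 2837, 48, 22, 2922, 0, [4, 3, 7, 8, 2, 3, 7, 4, 3, 2, 1, 0, 1, 2, 3, 4, 7, 3, 2, 8, 7, 3, 4]),
   (47, 2837, 84, 22, 2922, 0, [4, 3, 7, 8, 2, 3, 7, 4, 3, 2, 1, 0, 1, 2, 3, 4, 7, 3, 2, 8, 7, 3, 4, 6]),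
   (47, 3113, 0, 2922, 22, 1, [4, 3, 7, 8, 2, 3, 7, 4, 3, 2, 1, 0, 1, 2, 3, 4, 7, 3, 2, 8, 7, 3, 4, 0, 2, 3, 7, 8, 1, 2, 3, 7, 4, 3, 2, 1, 0, 1, 2, 3, 4, 7, 3, 2, 1, 8, 7, 3, 2, 4, 3, 7, 8, 1, 2, 3, 7, 4, 3, 2, 1, 0, 1, 2, 3, 4, 7, 3, 2, 1, 8, 7, 3, 4]),
   (47, 3113, 28, 2922, 22, 1, [4, 3, 7, 8, 2, 3, 7, 4, 3, 2, 1, 0, 1, 2, 3, 4, 7, 3, 2, 8, 7, 3, 4, 2, 3, 7, 8, 1, 2, 3, 7, 4, 3, 2, 1, 0, 1, 2, 3, 4, 7, 3, 2, 1, 8, 7, 3, 2, 4, 3, 7, 8, 1, 2, 3, 7, 4, 3, 2, 1, 0, 1, 2, 3, 4, 7, 3, 2, 1, 8, 7, 3, 4]),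
   (47, 3151, 0, 2922, 22, 1, [4, 3, 7, 8, 2, 3, 7, 4, 3, 2, 1, 0, 1, 2, 3, 4, 7, 3, 2, 8, 7, 3, 4, 6, 0, 2, 3, 7, 8, 1, 2, 3, 7, 4, 3, 2, 1, 0, 1, 2, 3, 4, 7, 3, 2, 1, 8, 7, 3, 2, 4, 3, 7, 8, 1, 2, 3, 7, 4, 3, 2, 1, 0, 1, 2, 3, 4, 7, 3, 2, 1, 8, 7, 3, 4]),
   (47, 3151, 28, 2922, 22, 1, [4, 3, 7, 8, 2, 3, 7, 4, 3, 2, 1, 0, 1, 2, 3, 4, 7, 3, 2, 8, 7, 3, 4, 6, 2, 3, 7, 8, 1, 2, 3, 7, 4, 3, 2, 1, 0, 1, 2, 3, 4, 7, 3, 2, 1, 8, 7, 3, 2, 4, 3, 7, 8, 1, 2, 3, 7, 4, 3, 2, 1, 0, 1, 2, 3, 4, 7, 3, 2, 1, 8, 7, 3, 4]),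
   (64, 2, 22, 48, 2882, 0, [5, 4, 3, 7, 8, 2, 3, 7, 4, 3, 2, 1, 2, 3, 4, 7, 3, 2, 8, 7, 3, 4, 5, 5]),
   (64, 2, 66, 48, 2882, 0, [5, 4, 3, 7, 8, 2, 3, 7, 4, 3, 2, 1, 2, 3, 4, 7, 3, 2, 8, 7, 3, 4, 5, 6, 5, 6, 5]),
   (64, 2853, 22, 48, 2882, 0, [5, 4, 3, 7, 8, 2, 3, 7, 4, 3, 2, 1, 2, 3, 4, 7, 3, 2, 8, 7, 3, 4, 5, 5, 0]),
   (64, 2853, 66, 48, 2882, 0, [5, 4, 3, 7, 8, 2, 3, 7, 4, 3, 2, 1, 2, 3, 4, 7, 3, 2, 8, 7, 3, 4, 5, 6, 5, 6, 5, 0]),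
   (64, 3113, 0, 2882, 48, 1, [5, 4, 3, 7, 8, 2, 3, 7, 4, 3, 2, 1, 2, 3, 4, 7, 3, 2, 8, 7, 3, 4, 5, 5, 2, 3, 7, 8, 1, 2, 3, 7, 4, 3, 2, 1, 0, 1, 2, 3, 4, 7, 3, 2, 1, 8, 7, 3, 2, 4, 3, 7, 8, 1, 2, 3, 7, 4, 3, 2, 1, 0, 1, 2, 3, 4, 7, 3, 2, 1, 8, 7, 3, 4]),
   (64, 3113, 38, 2882, 48, 1, [5, 4, 3, 7, 8, 2, 3, 7, 4, 3, 2, 1, 2, 3, 4, 7, 3, 2, 8, 7, 3, 4, 5, 5, 0, 2, 3, 7, 8, 1, 2, 3, 7, 4, 3, 2, 1, 0, 1, 2, 3, 4, 7, 3, 2, 1, 8, 7, 3, 2, 4, 3, 7, 8, 1, 2, 3, 7, 4, 3, 2, 1, 0, 1, 2, 3, 4, 7, 3, 2, 1, 8, 7, 3, 4]),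
   (64, 3211, 0, 2882, 48, 1, [5, 4, 3, 7, 8, 2, 3, 7, 4, 3, 2, 1, 2, 3, 4, 7, 3, 2, 8, 7, 3, 4, 5, 6, 5, 6, 5, 2, 3, 7, 8, 1, 2, 3, 7, 4, 3, 2, 1, 0, 1, 2, 3, 4, 7, 3, 2, 1, 8, 7, 3, 2, 4, 3, 7, 8, 1, 2, 3, 7, 4, 3, 2, 1, 0, 1, 2, 3, 4, 7, 3, 2, 1, 8, 7, 3, 4]),
   (64, 3211, 38, 2882, 48, 1, [5, 4, 3, 7, 8, 2, 3, 7, 4, 3, 2, 1, 2, 3, 4, 7, 3, 2, 8, 7, 3, 4, 5, 6, 5, 6, 5, 0, 2, 3, 7, 8, 1, 2, 3, 7, 4, 3, 2, 1, 0, 1, 2, 3, 4, 7, 3, 2, 1, 8, 7, 3, 2, 4, 3, 7, 8, 1, 2, 3, 7, 4, 3, 2, 1, 0, 1, 2, 3, 4, 7, 3, 2, 1, 8, 7, 3, 4]),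
   (65, 2, 22, 48, 66, 0, [5, 4, 3, 7, 8, 2, 3, 7, 4, 3, 2, 1, 2, 3, 4, 7, 3, 2, 8, 7, 3, 4, 5]),
   (65, 2, 2882, 48, 66, 0, [5, 4, 3, 7, 8, 2, 3, 7, 4, 3, 2, 1, 2, 3, 4, 7, 3, 2, 8, 7, 3, 4, 5, 6]),
   (65, 751, 28, 66, 48, 1, [5, 4, 3, 7, 8, 2, 3, 7, 4, 3, 2, 1, 2, 3, 4, 7, 3, 2, 8, 7, 3, 4, 5, 6, 2, 3, 7, 8, 1, 2, 3, 7, 4, 3, 2, 1, 0, 1, 2, 3, 4, 7, 3, 2, 1, 8, 7, 3, 2, 4, 3, 7, 8, 1, 2, 3, 7, 4, 3, 2, 1, 0, 1, 2, 3, 4, 7, 3, 2, 1, 8, 7, 3, 4]),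
   (65, 751, 2854, 66, 48, 1, [5, 4, 3, 7, 8, 2, 3, 7, 4, 3, 2, 1, 2, 3, 4, 7, 3, 2, 8, 7, 3, 4, 5, 6, 0, 2, 3, 7, 8, 1, 2, 3, 7, 4, 3, 2, 1, 0, 1, 2, 3, 4, 7, 3, 2, 1, 8, 7, 3, 2, 4, 3, 7, 8, 1, 2, 3, 7, 4, 3, 2, 1, 0, 1, 2, 3, 4, 7, 3, 2, 1, 8, 7, 3, 4]),
   (65, 2853, 22, 48, 66, 0, [5, 4, 3, 7, 8, 2, 3, 7, 4, 3, 2, 1, 2, 3, 4, 7, 3, 2, 8, 7, 3, 4, 5, 0]),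
   (65, 2853, 2882, 48, 66, 0, [5, 4, 3, 7, 8, 2, 3, 7, 4, 3, 2, 1, 2, 3, 4, 7, 3, 2, 8, 7, 3, 4, 5, 6, 0]),
   (65, 3113, 28, 66, 48, 1, [5, 4, 3, 7, 8, 2, 3, 7, 4, 3, 2, 1, 2, 3, 4, 7, 3, 2, 8, 7, 3, 4, 5, 2, 3, 7, 8, 1, 2, 3, 7, 4, 3, 2, 1, 0, 1, 2, 3, 4, 7, 3, 2, 1, 8, 7, 3, 2, 4, 3, 7, 8, 1, 2, 3, 7, 4, 3, 2, 1, 0, 1, 2, 3, 4, 7, 3, 2, 1, 8, 7, 3, 4]),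
   (65, 3113, 2854, 66, 48, 1, [5, 4, 3, 7, 8, 2, 3, 7, 4, 3, 2, 1, 2, 3, 4, 7, 3, 2, 8, 7, 3, 4, 5, 0, 2, 3, 7, 8, 1, 2, 3, 7, 4, 3, 2, 1, 0, 1, 2, 3, 4, 7, 3, 2, 1, 8, 7, 3, 2, 4, 3, 7, 8, 1, 2, 3, 7, 4, 3, 2, 1, 0, 1, 2, 3, 4, 7, 3, 2, 1, 8, 7, 3, 4]),
   (82, 1, 28, 38, 2882, 0, [5, 4, 3, 7, 8, 2, 3, 7, 4, 3, 2, 1, 0, 1, 2, 3, 4, 7, 3, 2, 8, 7, 3, 4, 5, 5, 0]),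
   (82, 1, 84, 38, 2882, 0, [5, 4, 3, 7, 8, 2, 3, 7, 4, 3, 2, 1, 0, 1, 2, 3, 4, 7, 3, 2, 8, 7, 3, 4, 5, 6, 5, 6, 5, 0]),
   (82, 2853, 28, 38, 2882, 0, [5, 4, 3, 7, 8, 2, 3, 7, 4, 3, 2, 1, 0, 1, 2, 3, 4, 7, 3, 2, 8, 7, 3, 4, 5, 5]),
   (82, 2853, 84, 38, 2882, 0, [5, 4, 3, 7, 8, 2, 3, 7, 4, 3, 2, 1, 0, 1, 2, 3, 4, 7, 3, 2, 8, 7, 3, 4, 5, 6, 5, 6, 5]),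
   (82, 3113, 0, 2882, 38, 1, [5, 4, 3, 7, 8, 2, 3, 7, 4, 3, 2, 1, 0, 1, 2, 3, 4, 7, 3, 2, 8, 7, 3, 4, 5, 5, 0, 2, 3, 7, 8, 1, 2, 3, 7, 4, 3, 2, 1, 0, 1, 2, 3, 4, 7, 3, 2, 1, 8, 7, 3, 2, 4, 3, 7, 8, 1, 2, 3, 7, 4, 3, 2, 1, 0, 1, 2, 3, 4, 7, 3, 2, 1, 8, 7, 3, 4]),
   (82, 3113, 48, 2882, 38, 1, [5, 4, 3, 7, 8, 2, 3, 7, 4, 3, 2, 1, 0, 1, 2, 3, 4, 7, 3, 2, 8, 7, 3, 4, 5, 5, 2, 3, 7, 8, 1, 2, 3, 7, 4, 3, 2, 1, 0, 1, 2, 3, 4, 7, 3, 2, 1, 8, 7, 3, 2, 4, 3, 7, 8, 1, 2, 3, 7, 4, 3, 2, 1, 0, 1, 2, 3, 4, 7, 3, 2, 1, 8, 7, 3, 4]),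
   (82, 3211, 0, 2882, 38, 1, [5, 4, 3, 7, 8, 2, 3, 7, 4, 3, 2, 1, 0, 1, 2, 3, 4, 7, 3, 2, 8, 7, 3, 4, 5, 6, 5, 6, 5, 0, 2, 3, 7, 8, 1, 2, 3, 7, 4, 3, 2, 1, 0, 1, 2, 3, 4, 7, 3, 2, 1, 8, 7, 3, 2, 4, 3, 7, 8, 1, 2, 3, 7, 4, 3, 2, 1, 0, 1, 2, 3, 4, 7, 3, 2, 1, 8, 7, 3, 4]),
   (82, 3211, 48, 2882, 38, 1, [5, 4, 3, 7, 8, 2, 3, 7, 4, 3, 2, 1, 0, 1, 2, 3, 4, 7, 3, 2, 8, 7, 3, 4, 5, 6, 5, 6, 5, 2, 3, 7, 8, 1, 2, 3, 7, 4, 3, 2, 1, 0, 1, 2, 3, 4, 7, 3, 2, 1, 8, 7, 3, 2, 4, 3, 7, 8, 1, 2, 3, 7, 4, 3, 2, 1, 0, 1, 2, 3, 4, 7, 3, 2, 1, 8, 7, 3, 4]),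
   (83, 1, 28, 38, 84, 0, [5, 4, 3, 7, 8, 2, 3, 7, 4, 3, 2, 1, 0, 1, 2, 3, 4, 7, 3, 2, 8, 7, 3, 4, 5, 0]),
   (83, 1, 2882, 38, 84, 0, [5, 4, 3, 7, 8, 2, 3, 7, 4, 3, 2, 1, 0, 1, 2, 3, 4, 7, 3, 2, 8, 7, 3, 4, 5, 6, 0]),
   (83, 635, 22, 84, 38, 1, [5, 4, 3, 7, 8, 2, 3, 7, 4, 3, 2, 1, 0, 1, 2, 3, 4, 7, 3, 2, 8, 7, 3, 4, 5, 6, 0, 2, 3, 7, 8, 1, 2, 3, 7, 4, 3, 2, 1, 0, 1, 2, 3, 4, 7, 3, 2, 1, 8, 7, 3, 2, 4, 3, 7, 8, 1, 2, 3, 7, 4, 3, 2, 1, 0, 1, 2, 3, 4, 7, 3, 2, 1, 8, 7, 3, 4]),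
   (83, 635, 2854, 84, 38, 1, [5, 4, 3, 7, 8, 2, 3, 7, 4, 3, 2, 1, 0, 1, 2, 3, 4, 7, 3, 2, 8, 7, 3, 4, 5, 6, 2, 3, 7, 8, 1, 2, 3, 7, 4, 3, 2, 1, 0, 1, 2, 3, 4, 7, 3, 2, 1, 8, 7, 3, 2, 4, 3, 7, 8, 1, 2, 3, 7, 4, 3, 2, 1, 0, 1, 2, 3, 4, 7, 3, 2, 1, 8, 7, 3, 4]),
   (83, 2853, 28, 38, 84, 0, [5, 4, 3, 7, 8, 2, 3, 7, 4, 3, 2, 1, 0, 1, 2, 3, 4, 7, 3, 2, 8, 7, 3, 4, 5]),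
   (83, 2853, 2882, 38, 84, 0, [5, 4, 3, 7, 8, 2, 3, 7, 4, 3, 2, 1, 0, 1, 2, 3, 4, 7, 3, 2, 8, 7, 3, 4, 5, 6]),
   (83, 3113, 22, 84, 38, 1, [5, 4, 3, 7, 8, 2, 3, 7, 4, 3, 2, 1, 0, 1, 2, 3, 4, 7, 3, 2, 8, 7, 3, 4, 5, 0, 2, 3, 7, 8, 1, 2, 3, 7, 4, 3, 2, 1, 0, 1, 2, 3, 4, 7, 3, 2, 1, 8, 7, 3, 2, 4, 3, 7, 8, 1, 2, 3, 7, 4, 3, 2, 1, 0, 1, 2, 3, 4, 7, 3, 2, 1, 8, 7, 3, 4]),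
   (83, 3113, 2854, 84, 38, 1, [5, 4, 3, 7, 8, 2, 3, 7, 4, 3, 2, 1, 0, 1, 2, 3, 4, 7, 3, 2, 8, 7, 3, 4, 5, 2, 3, 7, 8, 1, 2, 3, 7, 4, 3, 2, 1, 0, 1, 2, 3, 4, 7, 3, 2, 1, 8, 7, 3, 2, 4, 3, 7, 8, 1, 2, 3, 7, 4, 3, 2, 1, 0, 1, 2, 3, 4, 7, 3, 2, 1, 8, 7, 3, 4]),
   (105, 2, 38, 28, 66, 0, [4, 3, 7, 8, 2, 3, 7, 4, 3, 2, 1, 2, 3, 4, 7, 3, 2, 8, 7, 3, 4, 5]),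
   (105, 2, 2922, 28, 66, 0, [4, 3, 7, 8, 2, 3, 7, 4, 3, 2, 1, 2, 3, 4, 7, 3, 2, 8, 7, 3, 4, 6, 5, 6, 5]),
   (105, 751, 48, 66, 28, 1, [4, 3, 7, 8, 2, 3, 7, 4, 3, 2, 1, 2, 3, 4, 7, 3, 2, 8, 7, 3, 4, 6, 5, 6, 5, 2, 3, 7, 8, 1, 2, 3, 7, 4, 3, 2, 1, 0, 1, 2, 3, 4, 7, 3, 2, 1, 8, 7, 3, 2, 4, 3, 7, 8, 1, 2, 3, 7, 4, 3, 2, 1, 0, 1, 2, 3, 4, 7, 3, 2, 1, 8, 7, 3, 4]),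
   (105, 751, 2854, 66, 28, 1, [4, 3, 7, 8, 2, 3, 7, 4, 3, 2, 1, 2, 3, 4, 7, 3, 2, 8, 7, 3, 4, 6, 5, 6, 5, 0, 2, 3, 7, 8, 1, 2, 3, 7, 4, 3, 2, 1, 0, 1, 2, 3, 4, 7, 3, 2, 1, 8, 7, 3, 2, 4, 3, 7, 8, 1, 2, 3, 7, 4, 3, 2, 1, 0, 1, 2, 3, 4, 7, 3, 2, 1, 8, 7, 3, 4]),
   (105, 2837, 38, 28, 66, 0, [4, 3, 7, 8, 2, 3, 7, 4, 3, 2, 1, 2, 3, 4, 7, 3, 2, 8, 7, 3, 4, 5, 0]),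
   (105, 2837, 2922, 28, 66, 0, [4, 3, 7, 8, 2, 3, 7, 4, 3, 2, 1, 2, 3, 4, 7, 3, 2, 8, 7, 3, 4, 6, 5, 6, 5, 0]),
   (105, 3113, 48, 66, 28, 1, [4, 3, 7, 8, 2, 3, 7, 4, 3, 2, 1, 2, 3, 4, 7, 3, 2, 8, 7, 3, 4, 5, 2, 3, 7, 8, 1, 2, 3, 7, 4, 3, 2, 1, 0, 1, 2, 3, 4, 7, 3, 2, 1, 8, 7, 3, 2, 4, 3, 7, 8, 1, 2, 3, 7, 4, 3, 2, 1, 0, 1, 2, 3, 4, 7, 3, 2, 1, 8, 7, 3, 4]),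
   (105, 3113, 2854, 66, 28, 1, [4, 3, 7, 8, 2, 3, 7, 4, 3, 2, 1, 2, 3, 4, 7, 3, 2, 8, 7, 3, 4, 5, 0, 2, 3, 7, 8, 1, 2, 3, 7, 4, 3, 2, 1, 0, 1, 2, 3, 4, 7, 3, 2, 1, 8, 7, 3, 2, 4, 3, 7, 8, 1, 2, 3, 7, 4, 3, 2, 1, 0, 1, 2, 3, 4, 7, 3, 2, 1, 8, 7, 3, 4]),
   (106, 2, 22, 84, 2854, 0, [6, 5, 4, 3, 7, 8, 2, 3, 7, 4, 3, 2, 1, 2, 3, 4, 7, 3, 2, 8, 7, 3, 4, 5, 6, 6, 5]),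
   (106, 2, 38, 84, 2854, 0, [6, 5, 4, 3, 7, 8, 2, 3, 7, 4, 3, 2, 1, 2, 3, 4, 7, 3, 2, 8, 7, 3, 4, 5, 6, 6, 5, 6]),
   (106, 2881, 22, 84, 2854, 0, [6, 5, 4, 3, 7, 8, 2, 3, 7, 4, 3, 2, 1, 2, 3, 4, 7, 3, 2, 8, 7, 3, 4, 5, 6, 6, 5, 0]),
   (106, 2881, 38, 84, 2854, 0, [6, 5, 4, 3, 7, 8, 2, 3, 7, 4, 3, 2, 1, 2, 3, 4, 7, 3, 2, 8, 7, 3, 4, 5, 6, 6, 5, 6, 0]),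
   (106, 3151, 0, 2854, 84, 1, [6, 5, 4, 3, 7, 8, 2, 3, 7, 4, 3, 2, 1, 2, 3, 4, 7, 3, 2, 8, 7, 3, 4, 5, 6, 6, 5, 2, 3, 7, 8, 1, 2, 3, 7, 4, 3, 2, 1, 0, 1, 2, 3, 4, 7, 3, 2, 1, 8, 7, 3, 2, 4, 3, 7, 8, 1, 2, 3, 7, 4, 3, 2, 1, 0, 1, 2, 3, 4, 7, 3, 2, 1, 8, 7, 3, 4]),
   (106, 3151, 66, 2854, 84, 1, [6, 5, 4, 3, 7, 8, 2, 3, 7, 4, 3, 2, 1, 2, 3, 4, 7, 3, 2, 8, 7, 3, 4, 5, 6, 6, 5, 0, 2, 3, 7, 8, 1, 2, 3, 7, 4, 3, 2, 1, 0, 1, 2, 3, 4, 7, 3, 2, 1, 8, 7, 3, 2, 4, 3, 7, 8, 1, 2, 3, 7, 4, 3, 2, 1, 0, 1, 2, 3, 4, 7, 3, 2, 1, 8, 7, 3, 4]),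
   (106, 3211, 0, 2854, 84, 1, [6, 5, 4, 3, 7, 8, 2, 3, 7, 4, 3, 2, 1, 2, 3, 4, 7, 3, 2, 8, 7, 3, 4, 5, 6, 6, 5, 6, 2, 3, 7, 8, 1, 2, 3, 7, 4, 3, 2, 1, 0, 1, 2, 3, 4, 7, 3, 2, 1, 8, 7, 3, 2, 4, 3, 7, 8, 1, 2, 3, 7, 4, 3, 2, 1, 0, 1, 2, 3, 4, 7, 3, 2, 1, 8, 7, 3, 4]),
   (106, 3211, 66, 2854, 84, 1, [6, 5, 4, 3, 7, 8, 2, 3, 7, 4, 3, 2, 1, 2, 3, 4, 7, 3, 2, 8, 7, 3, 4, 5, 6, 6, 5, 6, 0, 2, 3, 7, 8, 1, 2, 3, 7, 4, 3, 2, 1, 0, 1, 2, 3, 4, 7, 3, 2, 1, 8, 7, 3, 2, 4, 3, 7, 8, 1, 2, 3, 7, 4, 3, 2, 1, 0, 1, 2, 3, 4, 7, 3, 2, 1, 8, 7, 3, 4]),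
   (108, 2, 22, 84, 38, 0, [6, 5, 4, 3, 7, 8, 2, 3, 7, 4, 3, 2, 1, 2, 3, 4, 7, 3, 2, 8, 7, 3, 4, 5, 6, 6]),
   (108, 2, 2854, 84, 38, 0, [6, 5, 4, 3, 7, 8, 2, 3, 7, 4, 3, 2, 1, 2, 3, 4, 7, 3, 2, 8, 7, 3, 4, 5, 6]),
   (108, 751, 28, 38, 84, 1, [6, 5, 4, 3, 7, 8, 2, 3, 7, 4, 3, 2, 1, 2, 3, 4, 7, 3, 2, 8, 7, 3, 4, 5, 6, 2, 3, 7, 8, 1, 2, 3, 7, 4, 3, 2, 1, 0, 1, 2, 3, 4, 7, 3, 2, 1, 8, 7, 3, 2, 4, 3, 7, 8, 1, 2, 3, 7, 4, 3, 2, 1, 0, 1, 2, 3, 4, 7, 3, 2, 1, 8, 7, 3, 4]),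
   (108, 751, 2882, 38, 84, 1, [6, 5, 4, 3, 7, 8, 2, 3, 7, 4, 3, 2, 1, 2, 3, 4, 7, 3, 2, 8, 7, 3, 4, 5, 6, 0, 2, 3, 7, 8, 1, 2, 3, 7, 4, 3, 2, 1, 0, 1, 2, 3, 4, 7, 3, 2, 1, 8, 7, 3, 2, 4, 3, 7, 8, 1, 2, 3, 7, 4, 3, 2, 1, 0, 1, 2, 3, 4, 7, 3, 2, 1, 8, 7, 3, 4]),
   (108, 2881, 22, 84, 38, 0, [6, 5, 4, 3, 7, 8, 2, 3, 7, 4, 3, 2, 1, 2, 3, 4, 7, 3, 2, 8, 7, 3, 4, 5, 6, 6, 0]),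
   (108, 2881, 2854, 84, 38, 0, [6, 5, 4, 3, 7, 8, 2, 3, 7, 4, 3, 2, 1, 2, 3, 4, 7, 3, 2, 8, 7, 3, 4, 5, 6, 0]),
   (108, 3151, 28, 38, 84, 1, [6, 5, 4, 3, 7, 8, 2, 3, 7, 4, 3, 2, 1, 2, 3, 4, 7, 3, 2, 8, 7, 3, 4, 5, 6, 6, 2, 3, 7, 8, 1, 2, 3, 7, 4, 3, 2, 1, 0, 1, 2, 3, 4, 7, 3, 2, 1, 8, 7, 3, 2, 4, 3, 7, 8, 1, 2, 3, 7, 4, 3, 2, 1, 0, 1, 2, 3, 4, 7, 3, 2, 1, 8, 7, 3, 4]),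
   (108, 3151, 2882, 38, 84, 1, [6, 5, 4, 3, 7, 8, 2, 3, 7, 4, 3, 2, 1, 2, 3, 4, 7, 3, 2, 8, 7, 3, 4, 5, 6, 6, 0, 2, 3, 7, 8, 1, 2, 3, 7, 4, 3, 2, 1, 0, 1, 2, 3, 4, 7, 3, 2, 1, 8, 7, 3, 2, 4, 3, 7, 8, 1, 2, 3, 7, 4, 3, 2, 1, 0, 1, 2, 3, 4, 7, 3, 2, 1, 8, 7, 3, 4]),
   (129, 1, 48, 22, 84, 0, [4, 3, 7, 8, 2, 3, 7, 4, 3, 2, 1, 0, 1, 2, 3, 4, 7, 3, 2, 8, 7, 3, 4, 5, 0]),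
   (129, 1, 2922, 22, 84, 0, [4, 3, 7, 8, 2, 3, 7, 4, 3, 2, 1, 0, 1, 2, 3, 4, 7, 3, 2, 8, 7, 3, 4, 6, 5, 6, 5, 0]),
   (129, 635, 38, 84, 22, 1, [4, 3, 7, 8, 2, 3, 7, 4, 3, 2, 1, 0, 1, 2, 3, 4, 7, 3, 2, 8, 7, 3, 4, 6, 5, 6, 5, 0, 2, 3, 7, 8, 1, 2, 3, 7, 4, 3, 2, 1, 0, 1, 2, 3, 4, 7, 3, 2, 1, 8, 7, 3, 2, 4, 3, 7, 8, 1, 2, 3, 7, 4, 3, 2, 1, 0, 1, 2, 3, 4, 7, 3, 2, 1, 8, 7, 3, 4]),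
   (129, 635, 2854, 84, 22, 1, [4, 3, 7, 8, 2, 3, 7, 4, 3, 2, 1, 0, 1, 2, 3, 4, 7, 3, 2, 8, 7, 3, 4, 6, 5, 6, 5, 2, 3, 7, 8, 1, 2, 3, 7, 4, 3, 2, 1, 0, 1, 2, 3, 4, 7, 3, 2, 1, 8, 7, 3, 2, 4, 3, 7, 8, 1, 2, 3, 7, 4, 3, 2, 1, 0, 1, 2, 3, 4, 7, 3, 2, 1, 8, 7, 3, 4]),
   (129, 2837, 48, 22, 84, 0, [4, 3, 7, 8, 2, 3, 7, 4, 3, 2, 1, 0, 1, 2, 3, 4, 7, 3, 2, 8, 7, 3, 4, 5]),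
   (129, 2837, 2922, 22, 84, 0, [4, 3, 7, 8, 2, 3, 7, 4, 3, 2, 1, 0, 1, 2, 3, 4, 7, 3, 2, 8, 7, 3, 4, 6, 5, 6, 5]),
   (129, 3113, 38, 84, 22, 1, [4, 3, 7, 8, 2, 3, 7, 4, 3, 2, 1, 0, 1, 2, 3, 4, 7, 3, 2, 8, 7, 3, 4, 5, 0, 2, 3, 7, 8, 1, 2, 3, 7, 4, 3, 2, 1, 0, 1, 2, 3, 4, 7, 3, 2, 1, 8, 7, 3, 2, 4, 3, 7, 8, 1, 2, 3, 7, 4, 3, 2, 1, 0, 1, 2, 3, 4, 7, 3, 2, 1, 8, 7, 3, 4]),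
   (129, 3113, 2854, 84, 22, 1, [4, 3, 7, 8, 2, 3, 7, 4, 3, 2, 1, 0, 1, 2, 3, 4, 7, 3, 2, 8, 7, 3, 4, 5, 2, 3, 7, 8, 1, 2, 3, 7, 4, 3, 2, 1, 0, 1, 2, 3, 4, 7, 3, 2, 1, 8, 7, 3, 2, 4, 3, 7, 8, 1, 2, 3, 7, 4, 3, 2, 1, 0, 1, 2, 3, 4, 7, 3, 2, 1, 8, 7, 3, 4]),
   (130, 1, 28, 66, 2854, 0, [6, 5, 4, 3, 7, 8, 2, 3, 7, 4, 3, 2, 1, 0, 1, 2, 3, 4, 7, 3, 2, 8, 7, 3, 4, 5, 6, 6, 5, 0]),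
   (130, 1, 48, 66, 2854, 0, [6, 5, 4, 3, 7, 8, 2, 3, 7, 4, 3, 2, 1, 0, 1, 2, 3, 4, 7, 3, 2, 8, 7, 3, 4, 5, 6, 6, 5, 6, 0]),
   (130, 2881, 28, 66, 2854, 0, [6, 5, 4, 3, 7, 8, 2, 3, 7, 4, 3, 2, 1, 0, 1, 2, 3, 4, 7, 3, 2, 8, 7, 3, 4, 5, 6, 6, 5]),
   (130, 2881, 48, 66, 2854, 0, [6, 5, 4, 3, 7, 8, 2, 3, 7, 4, 3, 2, 1, 0, 1, 2, 3, 4, 7, 3, 2, 8, 7, 3, 4, 5, 6, 6, 5, 6]),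
   (130, 3151, 0, 2854, 66, 1, [6, 5, 4, 3, 7, 8, 2, 3, 7, 4, 3, 2, 1, 0, 1, 2, 3, 4, 7, 3, 2, 8, 7, 3, 4, 5, 6, 6, 5, 0, 2, 3, 7, 8, 1, 2, 3, 7, 4, 3, 2, 1, 0, 1, 2, 3, 4, 7, 3, 2, 1, 8, 7, 3, 2, 4, 3, 7, 8, 1, 2, 3, 7, 4, 3, 2, 1, 0, 1, 2, 3, 4, 7, 3, 2, 1, 8, 7, 3, 4]),
   (130, 3151, 84, 2854, 66, 1, [6, 5, 4, 3, 7, 8, 2, 3, 7, 4, 3, 2, 1, 0, 1, 2, 3, 4, 7, 3, 2, 8, 7, 3, 4, 5, 6, 6, 5, 2, 3, 7, 8, 1, 2, 3, 7, 4, 3, 2, 1, 0, 1, 2, 3, 4, 7, 3, 2, 1, 8, 7, 3, 2, 4, 3, 7, 8, 1, 2, 3, 7, 4, 3, 2, 1, 0, 1, 2, 3, 4, 7, 3, 2, 1, 8, 7, 3, 4]),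
   (130, 3211, 0, 2854, 66, 1, [6, 5, 4, 3, 7, 8, 2, 3, 7, 4, 3, 2, 1, 0, 1, 2, 3, 4, 7, 3, 2, 8, 7, 3, 4, 5, 6, 6, 5, 6, 0, 2, 3, 7, 8, 1, 2, 3, 7, 4, 3, 2, 1, 0, 1, 2, 3, 4, 7, 3, 2, 1, 8, 7, 3, 2, 4, 3, 7, 8, 1, 2, 3, 7, 4, 3, 2, 1, 0, 1, 2, 3, 4, 7, 3, 2, 1, 8, 7, 3, 4]),
   (130, 3211, 84, 2854, 66, 1, [6, 5, 4, 3, 7, 8, 2, 3, 7, 4, 3, 2, 1, 0, 1, 2, 3, 4, 7, 3, 2, 8, 7, 3, 4, 5, 6, 6, 5, 6, 2, 3, 7, 8, 1, 2, 3, 7, 4, 3, 2, 1, 0, 1, 2, 3, 4, 7, 3, 2, 1, 8, 7, 3, 2, 4, 3, 7, 8, 1, 2, 3, 7, 4, 3, 2, 1, 0, 1, 2, 3, 4, 7, 3, 2, 1, 8, 7, 3, 4]),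
   (132, 1, 28, 66, 48, 0, [6, 5, 4, 3, 7, 8, 2, 3, 7, 4, 3, 2, 1, 0, 1, 2, 3, 4, 7, 3, 2, 8, 7, 3, 4, 5, 6, 6, 0]),
   (132, 1, 2854, 66, 48, 0, [6, 5, 4, 3, 7, 8, 2, 3, 7, 4, 3, 2, 1, 0, 1, 2, 3, 4, 7, 3, 2, 8, 7, 3, 4, 5, 6, 0]),
   (132, 635, 22, 48, 66, 1, [6, 5, 4, 3, 7, 8, 2, 3, 7, 4, 3, 2, 1, 0, 1, 2, 3, 4, 7, 3, 2, 8, 7, 3, 4, 5, 6, 0, 2, 3, 7, 8, 1, 2, 3, 7, 4, 3, 2, 1, 0, 1, 2, 3, 4, 7, 3, 2, 1, 8, 7, 3, 2, 4, 3, 7, 8, 1, 2, 3, 7, 4, 3, 2, 1, 0, 1, 2, 3, 4, 7, 3, 2, 1, 8, 7, 3, 4]),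
   (132, 635, 2882, 48, 66, 1, [6, 5, 4, 3, 7, 8, 2, 3, 7, 4, 3, 2, 1, 0, 1, 2, 3, 4, 7, 3, 2, 8, 7, 3, 4, 5, 6, 2, 3, 7, 8, 1, 2, 3, 7, 4, 3, 2, 1, 0, 1, 2, 3, 4, 7, 3, 2, 1, 8, 7, 3, 2, 4, 3, 7, 8, 1, 2, 3, 7, 4, 3, 2, 1, 0, 1, 2, 3, 4, 7, 3, 2, 1, 8, 7, 3, 4]),
   (132, 2881, 28, 66, 48, 0, [6, 5, 4, 3, 7, 8, 2, 3, 7, 4, 3, 2, 1, 0, 1, 2, 3, 4, 7, 3, 2, 8, 7, 3, 4, 5, 6, 6]),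
   (132, 2881, 2854, 66, 48, 0, [6, 5, 4, 3, 7, 8, 2, 3, 7, 4, 3, 2, 1, 0, 1, 2, 3, 4, 7, 3, 2, 8, 7, 3, 4, 5, 6]),
   (132, 3151, 22, 48, 66, 1, [6, 5, 4, 3, 7, 8, 2, 3, 7, 4, 3, 2, 1, 0, 1, 2, 3, 4, 7, 3, 2, 8, 7, 3, 4, 5, 6, 6, 0, 2, 3, 7, 8, 1, 2, 3, 7, 4, 3, 2, 1, 0, 1, 2, 3, 4, 7, 3, 2, 1, 8, 7, 3, 2, 4, 3, 7, 8, 1, 2, 3, 7, 4, 3, 2, 1, 0, 1, 2, 3, 4, 7, 3, 2, 1, 8, 7, 3, 4]),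
   (132, 3151, 2882, 48, 66, 1, [6, 5, 4, 3, 7, 8, 2, 3, 7, 4, 3, 2, 1, 0, 1, 2, 3, 4, 7, 3, 2, 8, 7, 3, 4, 5, 6, 6, 2, 3, 7, 8, 1, 2, 3, 7, 4, 3, 2, 1, 0, 1, 2, 3, 4, 7, 3, 2, 1, 8, 7, 3, 2, 4, 3, 7, 8, 1, 2, 3, 7, 4, 3, 2, 1, 0, 1, 2, 3, 4, 7, 3, 2, 1, 8, 7, 3, 4]),
   (166, 2, 66, 28, 38, 0, [4, 3, 7, 8, 2, 3, 7, 4, 3, 2, 1, 2, 3, 4, 7, 3, 2, 8, 7, 3, 4, 6, 5]),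
   (166, 2, 2922, 28, 38, 0, [4, 3, 7, 8, 2, 3, 7, 4, 3, 2, 1, 2, 3, 4, 7, 3, 2, 8, 7, 3, 4, 6, 5, 6]),
   (166, 751, 84, 38, 28, 1, [4, 3, 7, 8, 2, 3, 7, 4, 3, 2, 1, 2, 3, 4, 7, 3, 2, 8, 7, 3, 4, 6, 5, 6, 2, 3, 7, 8, 1, 2, 3, 7, 4, 3, 2, 1, 0, 1, 2, 3, 4, 7, 3, 2, 1, 8, 7, 3, 2, 4, 3, 7, 8, 1, 2, 3, 7, 4, 3, 2, 1, 0, 1, 2, 3, 4, 7, 3, 2, 1, 8, 7, 3, 4]),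
   (166, 751, 2882, 38, 28, 1, [4, 3, 7, 8, 2, 3, 7, 4, 3, 2, 1, 2, 3, 4, 7, 3, 2, 8, 7, 3, 4, 6, 5, 6, 0, 2, 3, 7, 8, 1, 2, 3, 7, 4, 3, 2, 1, 0, 1, 2, 3, 4, 7, 3, 2, 1, 8, 7, 3, 2, 4, 3, 7, 8, 1, 2, 3, 7, 4, 3, 2, 1, 0, 1, 2, 3, 4, 7, 3, 2, 1, 8, 7, 3, 4]),
   (166, 2837, 66, 28, 38, 0, [4, 3, 7, 8, 2, 3, 7, 4, 3, 2, 1, 2, 3, 4, 7, 3, 2, 8, 7, 3, 4, 6, 5, 0]),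
   (166, 2837, 2922, 28, 38, 0, [4, 3, 7, 8, 2, 3, 7, 4, 3, 2, 1, 2, 3, 4, 7, 3, 2, 8, 7, 3, 4, 6, 5, 6, 0]),
   (166, 3151, 84, 38, 28, 1, [4, 3, 7, 8, 2, 3, 7, 4, 3, 2, 1, 2, 3, 4, 7, 3, 2, 8, 7, 3, 4, 6, 5, 2, 3, 7, 8, 1, 2, 3, 7, 4, 3, 2, 1, 0, 1, 2, 3, 4, 7, 3, 2, 1, 8, 7, 3, 2, 4, 3, 7, 8, 1, 2, 3, 7, 4, 3, 2, 1, 0, 1, 2, 3, 4, 7, 3, 2, 1, 8, 7, 3, 4]),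
   (166, 3151, 2882, 38, 28, 1, [4, 3, 7, 8, 2, 3, 7, 4, 3, 2, 1, 2, 3, 4, 7, 3, 2, 8, 7, 3, 4, 6, 5, 0, 2, 3, 7, 8, 1, 2, 3, 7, 4, 3, 2, 1, 0, 1, 2, 3, 4, 7, 3, 2, 1, 8, 7, 3, 2, 4, 3, 7, 8, 1, 2, 3, 7, 4, 3, 2, 1, 0, 1, 2, 3, 4, 7, 3, 2, 1, 8, 7, 3, 4]),
   (170, 2, 38, 84, 22, 0, [6, 5, 4, 3, 7, 8, 2, 3, 7, 4, 3, 2, 1, 2, 3, 4, 7, 3, 2, 8, 7, 3, 4, 5, 6, 6, 5, 6, 5]),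
   (170, 2, 2854, 84, 22, 0, [6, 5, 4, 3, 7, 8, 2, 3, 7, 4, 3, 2, 1, 2, 3, 4, 7, 3, 2, 8, 7, 3, 4, 5, 6, 5]),
   (170, 751, 48, 22, 84, 1, [6, 5, 4, 3, 7, 8, 2, 3, 7, 4, 3, 2, 1, 2, 3, 4, 7, 3, 2, 8, 7, 3, 4, 5, 6, 5, 2, 3, 7, 8, 1, 2, 3, 7, 4, 3, 2, 1, 0, 1, 2, 3, 4, 7, 3, 2, 1, 8, 7, 3, 2, 4, 3, 7, 8, 1, 2, 3, 7, 4, 3, 2, 1, 0, 1, 2, 3, 4, 7, 3, 2, 1, 8, 7, 3, 4]),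
   (170, 751, 2922, 22, 84, 1, [6, 5, 4, 3, 7, 8, 2, 3, 7, 4, 3, 2, 1, 2, 3, 4, 7, 3, 2, 8, 7, 3, 4, 5, 6, 5, 0, 2, 3, 7, 8, 1, 2, 3, 7, 4, 3, 2, 1, 0, 1, 2, 3, 4, 7, 3, 2, 1, 8, 7, 3, 2, 4, 3, 7, 8, 1, 2, 3, 7, 4, 3, 2, 1, 0, 1, 2, 3, 4, 7, 3, 2, 1, 8, 7, 3, 4]),
   (170, 2881, 38, 84, 22, 0, [6, 5, 4, 3, 7, 8, 2, 3, 7, 4, 3, 2, 1, 2, 3, 4, 7, 3, 2, 8, 7, 3, 4, 5, 6, 6, 5, 6, 5, 0]),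
   (170, 2881, 2854, 84, 22, 0, [6, 5, 4, 3, 7, 8, 2, 3, 7, 4, 3, 2, 1, 2, 3, 4, 7, 3, 2, 8, 7, 3, 4, 5, 6, 5, 0]),
   (170, 3211, 48, 22, 84, 1, [6, 5, 4, 3, 7, 8, 2, 3, 7, 4, 3, 2, 1, 2, 3, 4, 7, 3, 2, 8, 7, 3, 4, 5, 6, 6, 5, 6, 5, 2, 3, 7, 8, 1, 2, 3, 7, 4, 3, 2, 1, 0, 1, 2, 3, 4, 7, 3, 2, 1, 8, 7, 3, 2, 4, 3, 7, 8, 1, 2, 3, 7, 4, 3, 2, 1, 0, 1, 2, 3, 4, 7, 3, 2, 1, 8, 7, 3, 4]),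
   (170, 3211, 2922, 22, 84, 1, [6, 5, 4, 3, 7, 8, 2, 3, 7, 4, 3, 2, 1, 2, 3, 4, 7, 3, 2, 8, 7, 3, 4, 5, 6, 6, 5, 6, 5, 0, 2, 3, 7, 8, 1, 2, 3, 7, 4, 3, 2, 1, 0, 1, 2, 3, 4, 7, 3, 2, 1, 8, 7, 3, 2, 4, 3, 7, 8, 1, 2, 3, 7, 4, 3, 2, 1, 0, 1, 2, 3, 4, 7, 3, 2, 1, 8, 7, 3, 4]),
   (204, 1, 84, 22, 48, 0, [4, 3, 7, 8, 2, 3, 7, 4, 3, 2, 1, 0, 1, 2, 3, 4, 7, 3, 2, 8, 7, 3, 4, 6, 5, 0]),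
   (204, 1, 2922, 22, 48, 0, [4, 3, 7, 8, 2, 3, 7, 4, 3, 2, 1, 0, 1, 2, 3, 4, 7, 3, 2, 8, 7, 3, 4, 6, 5, 6, 0]),
   (204, 635, 66, 48, 22, 1, [4, 3, 7, 8, 2, 3, 7, 4, 3, 2, 1, 0, 1, 2, 3, 4, 7, 3, 2, 8, 7, 3, 4, 6, 5, 6, 0, 2, 3, 7, 8, 1, 2, 3, 7, 4, 3, 2, 1, 0, 1, 2, 3, 4, 7, 3, 2, 1, 8, 7, 3, 2, 4, 3, 7, 8, 1, 2, 3, 7, 4, 3, 2, 1, 0, 1, 2, 3, 4, 7, 3, 2, 1, 8, 7, 3, 4]),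
   (204, 635, 2882, 48, 22, 1, [4, 3, 7, 8, 2, 3, 7, 4, 3, 2, 1, 0, 1, 2, 3, 4, 7, 3, 2, 8, 7, 3, 4, 6, 5, 6, 2, 3, 7, 8, 1, 2, 3, 7, 4, 3, 2, 1, 0, 1, 2, 3, 4, 7, 3, 2, 1, 8, 7, 3, 2, 4, 3, 7, 8, 1, 2, 3, 7, 4, 3, 2, 1, 0, 1, 2, 3, 4, 7, 3, 2, 1, 8, 7, 3, 4]),
   (204, 2837, 84, 22, 48, 0, [4, 3, 7, 8, 2, 3, 7, 4, 3, 2, 1, 0, 1, 2, 3, 4, 7, 3, 2, 8, 7, 3, 4, 6, 5]),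
   (204, 2837, 2922, 22, 48, 0, [4, 3, 7, 8, 2, 3, 7, 4, 3, 2, 1, 0, 1, 2, 3, 4, 7, 3, 2, 8, 7, 3, 4, 6, 5, 6]),
   (204, 3151, 66, 48, 22, 1, [4, 3, 7, 8, 2, 3, 7, 4, 3, 2, 1, 0, 1, 2, 3, 4, 7, 3, 2, 8, 7, 3, 4, 6, 5, 0, 2, 3, 7, 8, 1, 2, 3, 7, 4, 3, 2, 1, 0, 1, 2, 3, 4, 7, 3, 2, 1, 8, 7, 3, 2, 4, 3, 7, 8, 1, 2, 3, 7, 4, 3, 2, 1, 0, 1, 2, 3, 4, 7, 3, 2, 1, 8, 7, 3, 4]),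
   (204, 3151, 2882, 48, 22, 1, [4, 3, 7, 8, 2, 3, 7, 4, 3, 2, 1, 0, 1, 2, 3, 4, 7, 3, 2, 8, 7, 3, 4, 6, 5, 2, 3, 7, 8, 1, 2, 3, 7, 4, 3, 2, 1, 0, 1, 2, 3, 4, 7, 3, 2, 1, 8, 7, 3, 2, 4, 3, 7, 8, 1, 2, 3, 7, 4, 3, 2, 1, 0, 1, 2, 3, 4, 7, 3, 2, 1, 8, 7, 3, 4]),
   (208, 1, 48, 66, 28, 0, [6, 5, 4, 3, 7, 8, 2, 3, 7, 4, 3, 2, 1, 0, 1, 2, 3, 4, 7, 3, 2, 8, 7, 3, 4, 5, 6, 6, 5, 6, 5, 0]),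
   (208, 1, 2854, 66, 28, 0, [6, 5, 4, 3, 7, 8, 2, 3, 7, 4, 3, 2, 1, 0, 1, 2, 3, 4, 7, 3, 2, 8, 7, 3, 4, 5, 6, 5, 0]),
   (208, 635, 38, 28, 66, 1, [6, 5, 4, 3, 7, 8, 2, 3, 7, 4, 3, 2, 1, 0, 1, 2, 3, 4, 7, 3, 2, 8, 7, 3, 4, 5, 6, 5, 0, 2, 3, 7, 8, 1, 2, 3, 7, 4, 3, 2, 1, 0, 1, 2, 3, 4, 7, 3, 2, 1, 8, 7, 3, 2, 4, 3, 7, 8, 1, 2, 3, 7, 4, 3, 2, 1, 0, 1, 2, 3, 4, 7, 3, 2, 1, 8, 7, 3, 4]),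
   (208, 635, 2922, 28, 66, 1, [6, 5, 4, 3, 7, 8, 2, 3, 7, 4, 3, 2, 1, 0, 1, 2, 3, 4, 7, 3, 2, 8, 7, 3, 4, 5, 6, 5, 2, 3, 7, 8, 1, 2, 3, 7, 4, 3, 2, 1, 0, 1, 2, 3, 4, 7, 3, 2, 1, 8, 7, 3, 2, 4, 3, 7, 8, 1, 2, 3, 7, 4, 3, 2, 1, 0, 1, 2, 3, 4, 7, 3, 2, 1, 8, 7, 3, 4]),
   (208, 2881, 48, 66, 28, 0, [6, 5, 4, 3, 7, 8, 2, 3, 7, 4, 3, 2, 1, 0, 1, 2, 3, 4, 7, 3, 2, 8, 7, 3, 4, 5, 6, 6, 5, 6, 5]),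
   (208, 2881, 2854, 66, 28, 0, [6, 5, 4, 3, 7, 8, 2, 3, 7, 4, 3, 2, 1, 0, 1, 2, 3, 4, 7, 3, 2, 8, 7, 3, 4, 5, 6, 5]),
   (208, 3211, 38, 28, 66, 1, [6, 5, 4, 3, 7, 8, 2, 3, 7, 4, 3, 2, 1, 0, 1, 2, 3, 4, 7, 3, 2, 8, 7, 3, 4, 5, 6, 6, 5, 6, 5, 0, 2, 3, 7, 8, 1, 2, 3, 7, 4, 3, 2, 1, 0, 1, 2, 3, 4, 7, 3, 2, 1, 8, 7, 3, 2, 4, 3, 7, 8, 1, 2, 3, 7, 4, 3, 2, 1, 0, 1, 2, 3, 4, 7, 3, 2, 1, 8, 7, 3, 4]),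
   (208, 3211, 2922, 28, 66, 1, [6, 5, 4, 3, 7, 8, 2, 3, 7, 4, 3, 2, 1, 0, 1, 2, 3, 4, 7, 3, 2, 8, 7, 3, 4, 5, 6, 6, 5, 6, 5, 2, 3, 7, 8, 1, 2, 3, 7, 4, 3, 2, 1, 0, 1, 2, 3, 4, 7, 3, 2, 1, 8, 7, 3, 2, 4, 3, 7, 8, 1, 2, 3, 7, 4, 3, 2, 1, 0, 1, 2, 3, 4, 7, 3, 2, 1, 8, 7, 3, 4]),
   (253, 2, 66, 48, 22, 0, [5, 4, 3, 7, 8, 2, 3, 7, 4, 3, 2, 1, 2, 3, 4, 7, 3, 2, 8, 7, 3, 4, 5, 6, 5, 6]),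
   (253, 2, 2882, 48, 22, 0, [5, 4, 3, 7, 8, 2, 3, 7, 4, 3, 2, 1, 2, 3, 4, 7, 3, 2, 8, 7, 3, 4, 5, 6, 5]),
   (253, 751, 84, 22, 48, 1, [5, 4, 3, 7, 8, 2, 3, 7, 4, 3, 2, 1, 2, 3, 4, 7, 3, 2, 8, 7, 3, 4, 5, 6, 5, 2, 3, 7, 8, 1, 2, 3, 7, 4, 3, 2, 1, 0, 1, 2, 3, 4, 7, 3, 2, 1, 8, 7, 3, 2, 4, 3, 7, 8, 1, 2, 3, 7, 4, 3, 2, 1, 0, 1, 2, 3, 4, 7, 3, 2, 1, 8, 7, 3, 4]),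
   (253, 751, 2922, 22, 48, 1, [5, 4, 3, 7, 8, 2, 3, 7, 4, 3, 2, 1, 2, 3, 4, 7, 3, 2, 8, 7, 3, 4, 5, 6, 5, 0, 2, 3, 7, 8, 1, 2, 3, 7, 4, 3, 2, 1, 0, 1, 2, 3, 4, 7, 3, 2, 1, 8, 7, 3, 2, 4, 3, 7, 8, 1, 2, 3, 7, 4, 3, 2, 1, 0, 1, 2, 3, 4, 7, 3, 2, 1, 8, 7, 3, 4]),
   (253, 2853, 66, 48, 22, 0, [5, 4, 3, 7, 8, 2, 3, 7, 4, 3, 2, 1, 2, 3, 4, 7, 3, 2, 8, 7, 3, 4, 5, 6, 5, 6, 0]),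
   (253, 2853, 2882, 48, 22, 0, [5, 4, 3, 7, 8, 2, 3, 7, 4, 3, 2, 1, 2, 3, 4, 7, 3, 2, 8, 7, 3, 4, 5, 6, 5, 0]),
   (253, 3211, 84, 22, 48, 1, [5, 4, 3, 7, 8, 2, 3, 7, 4, 3, 2, 1, 2, 3, 4, 7, 3, 2, 8, 7, 3, 4, 5, 6, 5, 6, 2, 3, 7, 8, 1, 2, 3, 7, 4, 3, 2, 1, 0, 1, 2, 3, 4, 7, 3, 2, 1, 8, 7, 3, 2, 4, 3, 7, 8, 1, 2, 3, 7, 4, 3, 2, 1, 0, 1, 2, 3, 4, 7, 3, 2, 1, 8, 7, 3, 4]),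
   (253, 3211, 2922, 22, 48, 1, [5, 4, 3, 7, 8, 2, 3, 7, 4, 3, 2, 1, 2, 3, 4, 7, 3, 2, 8, 7, 3, 4, 5, 6, 5, 6, 0, 2, 3, 7, 8, 1, 2, 3, 7, 4, 3, 2, 1, 0, 1, 2, 3, 4, 7, 3, 2, 1, 8, 7, 3, 2, 4, 3, 7, 8, 1, 2, 3, 7, 4, 3, 2, 1, 0, 1, 2, 3, 4, 7, 3, 2, 1, 8, 7, 3, 4]),
   (303, 1, 84, 38, 28, 0, [5, 4, 3, 7, 8, 2, 3, 7, 4, 3, 2, 1, 0, 1, 2, 3, 4, 7, 3, 2, 8, 7, 3, 4, 5, 6, 5, 6, 0]),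
   (303, 1, 2882, 38, 28, 0, [5, 4, 3, 7, 8, 2, 3, 7, 4, 3, 2, 1, 0, 1, 2, 3, 4, 7, 3, 2, 8, 7, 3, 4, 5, 6, 5, 0]),
   (303, 635, 66, 28, 38, 1, [5, 4, 3, 7, 8, 2, 3, 7, 4, 3, 2, 1, 0, 1, 2, 3, 4, 7, 3, 2, 8, 7, 3, 4, 5, 6, 5, 0, 2, 3, 7, 8, 1, 2, 3, 7, 4, 3, 2, 1, 0, 1, 2, 3, 4, 7, 3, 2, 1, 8, 7, 3, 2, 4, 3, 7, 8, 1, 2, 3, 7, 4, 3, 2, 1, 0, 1, 2, 3, 4, 7, 3, 2, 1, 8, 7, 3, 4]),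
   (303, 635, 2922, 28, 38, 1, [5, 4, 3, 7, 8, 2, 3, 7, 4, 3, 2, 1, 0, 1, 2, 3, 4, 7, 3, 2, 8, 7, 3, 4, 5, 6, 5, 2, 3, 7, 8, 1, 2, 3, 7, 4, 3, 2, 1, 0, 1, 2, 3, 4, 7, 3, 2, 1, 8, 7, 3, 2, 4, 3, 7, 8, 1, 2, 3, 7, 4, 3, 2, 1, 0, 1, 2, 3, 4, 7, 3, 2, 1, 8, 7, 3, 4]),
   (303, 2853, 84, 38, 28, 0, [5, 4, 3, 7, 8, 2, 3, 7, 4, 3, 2, 1, 0, 1, 2, 3, 4, 7, 3, 2, 8, 7, 3, 4, 5, 6, 5, 6]),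
   (303, 2853, 2882, 38, 28, 0, [5, 4, 3, 7, 8, 2, 3, 7, 4, 3, 2, 1, 0, 1, 2, 3, 4, 7, 3, 2, 8, 7, 3, 4, 5, 6, 5]),
   (303, 3211, 66, 28, 38, 1, [5, 4, 3, 7, 8, 2, 3, 7, 4, 3, 2, 1, 0, 1, 2, 3, 4, 7, 3, 2, 8, 7, 3, 4, 5, 6, 5, 6, 0, 2, 3, 7, 8, 1, 2, 3, 7, 4, 3, 2, 1, 0, 1, 2, 3, 4, 7, 3, 2, 1, 8, 7, 3, 2, 4, 3, 7, 8, 1, 2, 3, 7, 4, 3, 2, 1, 0, 1, 2, 3, 4, 7, 3, 2, 1, 8, 7, 3, 4]),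
   (303, 3211, 2922, 28, 38, 1, [5, 4, 3, 7, 8, 2, 3, 7, 4, 3, 2, 1, 0, 1, 2, 3, 4, 7, 3, 2, 8, 7, 3, 4, 5, 6, 5, 6, 2, 3, 7, 8, 1, 2, 3, 7, 4, 3, 2, 1, 0, 1, 2, 3, 4, 7, 3, 2, 1, 8, 7, 3, 2, 4, 3, 7, 8, 1, 2, 3, 7, 4, 3, 2, 1, 0, 1, 2, 3, 4, 7, 3, 2, 1, 8, 7, 3, 4]),
   (724, 751, 28, 66, 2854, 1, [5, 4, 3, 7, 8, 2, 3, 7, 4, 3, 2, 1, 2, 3, 4, 7, 3, 2, 8, 7, 3, 4, 5, 4, 3, 7, 8, 2, 3, 7, 4, 3, 2, 1, 0, 1, 2, 3, 4, 7, 3, 2, 8, 7, 3, 4, 6, 2, 3, 7, 8, 1, 2, 3, 7, 4, 3, 2, 1, 0, 1, 2, 3, 4, 7, 3, 2, 1, 8, 7, 3, 2, 4, 3, 7, 8, 1, 2, 3, 7, 4, 3, 2, 1, 0, 1, 2, 3, 4, 7, 3, 2, 1, 8, 7, 3, 4]),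
   (724, 751, 48, 66, 2854, 1, [5, 4, 3, 7, 8, 2, 3, 7, 4, 3, 2, 1, 2, 3, 4, 7, 3, 2, 8, 7, 3, 4, 5, 4, 3, 7, 8, 2, 3, 7, 4, 3, 2, 1, 0, 1, 2, 3, 4, 7, 3, 2, 8, 7, 3, 4, 6, 0, 2, 3, 7, 8, 1, 2, 3, 7, 4, 3, 2, 1, 0, 1, 2, 3, 4, 7, 3, 2, 1, 8, 7, 3, 2, 4, 3, 7, 8, 1, 2, 3, 7, 4, 3, 2, 1, 0, 1, 2, 3, 4, 7, 3, 2, 1, 8, 7, 3, 4]),
   (724, 2837, 0, 2854, 66, 0, [5, 4, 3, 7, 8, 2, 3, 7, 4, 3, 2, 1, 2, 3, 4, 7, 3, 2, 8, 7, 3, 4, 5, 4, 3, 7, 8, 2, 3, 7, 4, 3, 2, 1, 0, 1, 2, 3, 4, 7, 3, 2, 8, 7, 3, 4]),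
   (724, 2837, 84, 2854, 66, 0, [5, 4, 3, 7, 8, 2, 3, 7, 4, 3, 2, 1, 2, 3, 4, 7, 3, 2, 8, 7, 3, 4, 5, 4, 3, 7, 8, 2, 3, 7, 4, 3, 2, 1, 0, 1, 2, 3, 4, 7, 3, 2, 8, 7, 3, 4, 6]),
   (724, 2853, 0, 2854, 66, 0, [5, 4, 3, 7, 8, 2, 3, 7, 4, 3, 2, 1, 2, 3, 4, 7, 3, 2, 8, 7, 3, 4, 5, 4, 3, 7, 8, 2, 3, 7, 4, 3, 2, 1, 0, 1, 2, 3, 4, 7, 3, 2, 8, 7, 3, 4, 0]),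
   (724, 2853, 84, 2854, 66, 0, [5, 4, 3, 7, 8, 2, 3, 7, 4, 3, 2, 1, 2, 3, 4, 7, 3, 2, 8, 7, 3, 4, 5, 4, 3, 7, 8, 2, 3, 7, 4, 3, 2, 1, 0, 1, 2, 3, 4, 7, 3, 2, 8, 7, 3, 4, 6, 0]),
   (724, 3113, 28, 66, 2854, 1, [5, 4, 3, 7, 8, 2, 3, 7, 4, 3, 2, 1, 2, 3, 4, 7, 3, 2, 8, 7, 3, 4, 5, 4, 3, 7, 8, 2, 3, 7, 4, 3, 2, 1, 0, 1, 2, 3, 4, 7, 3, 2, 8, 7, 3, 4, 2, 3, 7, 8, 1, 2, 3, 7, 4, 3, 2, 1, 0, 1, 2, 3, 4, 7, 3, 2, 1, 8, 7, 3, 2, 4, 3, 7, 8, 1, 2, 3, 7, 4, 3, 2, 1, 0, 1, 2, 3, 4, 7, 3, 2, 1, 8, 7, 3, 4]),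
   (724, 3113, 48, 66, 2854, 1, [5, 4, 3, 7, 8, 2, 3, 7, 4, 3, 2, 1, 2, 3, 4, 7, 3, 2, 8, 7, 3, 4, 5, 4, 3, 7, 8, 2, 3, 7, 4, 3, 2, 1, 0, 1, 2, 3, 4, 7, 3, 2, 8, 7, 3, 4, 0, 2, 3, 7, 8, 1, 2, 3, 7, 4, 3, 2, 1, 0, 1, 2, 3, 4, 7, 3, 2, 1, 8, 7, 3, 2, 4, 3, 7, 8, 1, 2, 3, 7, 4, 3, 2, 1, 0, 1, 2, 3, 4, 7, 3, 2, 1, 8, 7, 3, 4]),
   (840, 635, 22, 84, 2854, 1, [5, 4, 3, 7, 8, 2, 3, 7, 4, 3, 2, 1, 0, 1, 2, 3, 4, 7, 3, 2, 8, 7, 3, 4, 5, 4, 3, 7, 8, 2, 3, 7, 4, 3, 2, 1, 2, 3, 4, 7, 3, 2, 8, 7, 3, 4, 6, 0, 2, 3, 7, 8, 1, 2, 3, 7, 4, 3, 2, 1, 0, 1, 2, 3, 4, 7, 3, 2, 1, 8, 7, 3, 2, 4, 3, 7, 8, 1, 2, 3, 7, 4, 3, 2, 1, 0, 1, 2, 3, 4, 7, 3, 2, 1, 8, 7, 3, 4]),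
   (840, 635, 38, 84, 2854, 1, [5, 4, 3, 7, 8, 2, 3, 7, 4, 3, 2, 1, 0, 1, 2, 3, 4, 7, 3, 2, 8, 7, 3, 4, 5, 4, 3, 7, 8, 2, 3, 7, 4, 3, 2, 1, 2, 3, 4, 7, 3, 2, 8, 7, 3, 4, 6, 2, 3, 7, 8, 1, 2, 3, 7, 4, 3, 2, 1, 0, 1, 2, 3, 4, 7, 3, 2, 1, 8, 7, 3, 2, 4, 3, 7, 8, 1, 2, 3, 7, 4, 3, 2, 1, 0, 1, 2, 3, 4, 7, 3, 2, 1, 8, 7, 3, 4]),
   (840, 2837, 0, 2854, 84, 0, [5, 4, 3, 7, 8, 2, 3, 7, 4, 3, 2, 1, 0, 1, 2, 3, 4, 7, 3, 2, 8, 7, 3, 4, 5, 4, 3, 7, 8, 2, 3, 7, 4, 3, 2, 1, 2, 3, 4, 7, 3, 2, 8, 7, 3, 4, 0]),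
   (840, 2837, 66, 2854, 84, 0, [5, 4, 3, 7, 8, 2, 3, 7, 4, 3, 2, 1, 0, 1, 2, 3, 4, 7, 3, 2, 8, 7, 3, 4, 5, 4, 3, 7, 8, 2, 3, 7, 4, 3, 2, 1, 2, 3, 4, 7, 3, 2, 8, 7, 3, 4, 6, 0]),
   (840, 2853, 0, 2854, 84, 0, [5, 4, 3, 7, 8, 2, 3, 7, 4, 3, 2, 1, 0, 1, 2, 3, 4, 7, 3, 2, 8, 7, 3, 4, 5, 4, 3, 7, 8, 2, 3, 7, 4, 3, 2, 1, 2, 3, 4, 7, 3, 2, 8, 7, 3, 4]),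
   (840, 2853, 66, 2854, 84, 0, [5, 4, 3, 7, 8, 2, 3, 7, 4, 3, 2, 1, 0, 1, 2, 3, 4, 7, 3, 2, 8, 7, 3, 4, 5, 4, 3, 7, 8, 2, 3, 7, 4, 3, 2, 1, 2, 3, 4, 7, 3, 2, 8, 7, 3, 4, 6]),
   (840, 3113, 22, 84, 2854, 1, [5, 4, 3, 7, 8, 2, 3, 7, 4, 3, 2, 1, 0, 1, 2, 3, 4, 7, 3, 2, 8, 7, 3, 4, 5, 4, 3, 7, 8, 2, 3, 7, 4, 3, 2, 1, 2, 3, 4, 7, 3, 2, 8, 7, 3, 4, 0, 2, 3, 7, 8, 1, 2, 3, 7, 4, 3, 2, 1, 0, 1, 2, 3, 4, 7, 3, 2, 1, 8, 7, 3, 2, 4, 3, 7, 8, 1, 2, 3, 7, 4, 3, 2, 1, 0, 1, 2, 3, 4, 7, 3, 2, 1, 8, 7, 3, 4]),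
   (840, 3113, 38, 84, 2854, 1, [5, 4, 3, 7, 8, 2, 3, 7, 4, 3, 2, 1, 0, 1, 2, 3, 4, 7, 3, 2, 8, 7, 3, 4, 5, 4, 3, 7, 8, 2, 3, 7, 4, 3, 2, 1, 2, 3, 4, 7, 3, 2, 8, 7, 3, 4, 2, 3, 7, 8, 1, 2, 3, 7, 4, 3, 2, 1, 0, 1, 2, 3, 4, 7, 3, 2, 1, 8, 7, 3, 2, 4, 3, 7, 8, 1, 2, 3, 7, 4, 3, 2, 1, 0, 1, 2, 3, 4, 7, 3, 2, 1, 8, 7, 3, 4]),
   (925, 751, 28, 38, 2882, 1, [6, 5, 4, 3, 7, 8, 2, 3, 7, 4, 3, 2, 1, 2, 3, 4, 7, 3, 2, 8, 7, 3, 4, 5, 6, 4, 3, 7, 8, 2, 3, 7, 4, 3, 2, 1, 0, 1, 2, 3, 4, 7, 3, 2, 8, 7, 3, 4, 2, 3, 7, 8, 1, 2, 3, 7, 4, 3, 2, 1, 0, 1, 2, 3, 4, 7, 3, 2, 1, 8, 7, 3, 2, 4, 3, 7, 8, 1, 2, 3, 7, 4, 3, 2, 1, 0, 1, 2, 3, 4, 7, 3, 2, 1, 8, 7, 3, 4]),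
   (925, 751, 84, 38, 2882, 1, [6, 5, 4, 3, 7, 8, 2, 3, 7, 4, 3, 2, 1, 2, 3, 4, 7, 3, 2, 8, 7, 3, 4, 5, 6, 4, 3, 7, 8, 2, 3, 7, 4, 3, 2, 1, 0, 1, 2, 3, 4, 7, 3, 2, 8, 7, 3, 4, 0, 2, 3, 7, 8, 1, 2, 3, 7, 4, 3, 2, 1, 0, 1, 2, 3, 4, 7, 3, 2, 1, 8, 7, 3, 2, 4, 3, 7, 8, 1, 2, 3, 7, 4, 3, 2, 1, 0, 1, 2, 3, 4, 7, 3, 2, 1, 8, 7, 3, 4]),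
   (925, 2837, 0, 2882, 38, 0, [6, 5, 4, 3, 7, 8, 2, 3, 7, 4, 3, 2, 1, 2, 3, 4, 7, 3, 2, 8, 7, 3, 4, 5, 6, 4, 3, 7, 8, 2, 3, 7, 4, 3, 2, 1, 0, 1, 2, 3, 4, 7, 3, 2, 8, 7, 3, 4, 6]),
   (925, 2837, 48, 2882, 38, 0, [6, 5, 4, 3, 7, 8, 2, 3, 7, 4, 3, 2, 1, 2, 3, 4, 7, 3, 2, 8, 7, 3, 4, 5, 6, 4, 3, 7, 8, 2, 3, 7, 4, 3, 2, 1, 0, 1, 2, 3, 4, 7, 3, 2, 8, 7, 3, 4]),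
   (925, 2881, 0, 2882, 38, 0, [6, 5, 4, 3, 7, 8, 2, 3, 7, 4, 3, 2, 1, 2, 3, 4, 7, 3, 2, 8, 7, 3, 4, 5, 6, 4, 3, 7, 8, 2, 3, 7, 4, 3, 2, 1, 0, 1, 2, 3, 4, 7, 3, 2, 8, 7, 3, 4, 6, 0]),
   (925, 2881, 48, 2882, 38, 0, [6, 5, 4, 3, 7, 8, 2, 3, 7, 4, 3, 2, 1, 2, 3, 4, 7, 3, 2, 8, 7, 3, 4, 5, 6, 4, 3, 7, 8, 2, 3, 7, 4, 3, 2, 1, 0, 1, 2, 3, 4, 7, 3, 2, 8, 7, 3, 4, 0]),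
   (925, 3151, 28, 38, 2882, 1, [6, 5, 4, 3, 7, 8, 2, 3, 7, 4, 3, 2, 1, 2, 3, 4, 7, 3, 2, 8, 7, 3, 4, 5, 6, 4, 3, 7, 8, 2, 3, 7, 4, 3, 2, 1, 0, 1, 2, 3, 4, 7, 3, 2, 8, 7, 3, 4, 6, 2, 3, 7, 8, 1, 2, 3, 7, 4, 3, 2, 1, 0, 1, 2, 3, 4, 7, 3, 2, 1, 8, 7, 3, 2, 4, 3, 7, 8, 1, 2, 3, 7, 4, 3, 2, 1, 0, 1, 2, 3, 4, 7, 3, 2, 1, 8, 7, 3, 4]),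
   (925, 3151, 84, 38, 2882, 1, [6, 5, 4, 3, 7, 8, 2, 3, 7, 4, 3, 2, 1, 2, 3, 4, 7, 3, 2, 8, 7, 3, 4, 5, 6, 4, 3, 7, 8, 2, 3, 7, 4, 3, 2, 1, 0, 1, 2, 3, 4, 7, 3, 2, 8, 7, 3, 4, 6, 0, 2, 3, 7, 8, 1, 2, 3, 7, 4, 3, 2, 1, 0, 1, 2, 3, 4, 7, 3, 2, 1, 8, 7, 3, 2, 4, 3, 7, 8, 1, 2, 3, 7, 4, 3, 2, 1, 0, 1, 2, 3, 4, 7, 3, 2, 1, 8, 7, 3, 4]),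
   (1073, 635, 22, 48, 2882, 1, [6, 5, 4, 3, 7, 8, 2, 3, 7, 4, 3, 2, 1, 0, 1, 2, 3, 4, 7, 3, 2, 8, 7, 3, 4, 5, 6, 4, 3, 7, 8, 2, 3, 7, 4, 3, 2, 1, 2, 3, 4, 7, 3, 2, 8, 7, 3, 4, 0, 2, 3, 7, 8, 1, 2, 3, 7, 4, 3, 2, 1, 0, 1, 2, 3, 4, 7, 3, 2, 1, 8, 7, 3, 2, 4, 3, 7, 8, 1, 2, 3, 7, 4, 3, 2, 1, 0, 1, 2, 3, 4, 7, 3, 2, 1, 8, 7, 3, 4]),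
   (1073, 635, 66, 48, 2882, 1, [6, 5, 4, 3, 7, 8, 2, 3, 7, 4, 3, 2, 1, 0, 1, 2, 3, 4, 7, 3, 2, 8, 7, 3, 4, 5, 6, 4, 3, 7, 8, 2, 3, 7, 4, 3, 2, 1, 2, 3, 4, 7, 3, 2, 8, 7, 3, 4, 2, 3, 7, 8, 1, 2, 3, 7, 4, 3, 2, 1, 0, 1, 2, 3, 4, 7, 3, 2, 1, 8, 7, 3, 2, 4, 3, 7, 8, 1, 2, 3, 7, 4, 3, 2, 1, 0, 1, 2, 3, 4, 7, 3, 2, 1, 8, 7, 3, 4]),
   (1073, 2837, 0, 2882, 48, 0, [6, 5, 4, 3, 7, 8, 2, 3, 7, 4, 3, 2, 1, 0, 1, 2, 3, 4, 7, 3, 2, 8, 7, 3, 4, 5, 6, 4, 3, 7, 8, 2, 3, 7, 4, 3, 2, 1, 2, 3, 4, 7, 3, 2, 8, 7, 3, 4, 6, 0]),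
   (1073, 2837, 38, 2882, 48, 0, [6, 5, 4, 3, 7, 8, 2, 3, 7, 4, 3, 2, 1, 0, 1, 2, 3, 4, 7, 3, 2, 8, 7, 3, 4, 5, 6, 4, 3, 7, 8, 2, 3, 7, 4, 3, 2, 1, 2, 3, 4, 7, 3, 2, 8, 7, 3, 4, 0]),
   (1073, 2881, 0, 2882, 48, 0, [6, 5, 4, 3, 7, 8, 2, 3, 7, 4, 3, 2, 1, 0, 1, 2, 3, 4, 7, 3, 2, 8, 7, 3, 4, 5, 6, 4, 3, 7, 8, 2, 3, 7, 4, 3, 2, 1, 2, 3, 4, 7, 3, 2, 8, 7, 3, 4, 6]),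
   (1073, 2881, 38, 2882, 48, 0, [6, 5, 4, 3, 7, 8, 2, 3, 7, 4, 3, 2, 1, 0, 1, 2, 3, 4, 7, 3, 2, 8, 7, 3, 4, 5, 6, 4, 3, 7, 8, 2, 3, 7, 4, 3, 2, 1, 2, 3, 4, 7, 3, 2, 8, 7, 3, 4]),
   (1073, 3151, 22, 48, 2882, 1, [6, 5, 4, 3, 7, 8, 2, 3, 7, 4, 3, 2, 1, 0, 1, 2, 3, 4, 7, 3, 2, 8, 7, 3, 4, 5, 6, 4, 3, 7, 8, 2, 3, 7, 4, 3, 2, 1, 2, 3, 4, 7, 3, 2, 8, 7, 3, 4, 6, 0, 2, 3, 7, 8, 1, 2, 3, 7, 4, 3, 2, 1, 0, 1, 2, 3, 4, 7, 3, 2, 1, 8, 7, 3, 2, 4, 3, 7, 8, 1, 2, 3, 7, 4, 3, 2, 1, 0, 1, 2, 3, 4, 7, 3, 2, 1, 8, 7, 3, 4]),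
   (1073, 3151, 66, 48, 2882, 1, [6, 5, 4, 3, 7, 8, 2, 3, 7, 4, 3, 2, 1, 0, 1, 2, 3, 4, 7, 3, 2, 8, 7, 3, 4, 5, 6, 4, 3, 7, 8, 2, 3, 7, 4, 3, 2, 1, 2, 3, 4, 7, 3, 2, 8, 7, 3, 4, 6, 2, 3, 7, 8, 1, 2, 3, 7, 4, 3, 2, 1, 0, 1, 2, 3, 4, 7, 3, 2, 1, 8, 7, 3, 2, 4, 3, 7, 8, 1, 2, 3, 7, 4, 3, 2, 1, 0, 1, 2, 3, 4, 7, 3, 2, 1, 8, 7, 3, 4]),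
   (1238, 751, 48, 22, 2922, 1, [6, 5, 4, 3, 7, 8, 2, 3, 7, 4, 3, 2, 1, 2, 3, 4, 7, 3, 2, 8, 7, 3, 4, 5, 6, 5, 4, 3, 7, 8, 2, 3, 7, 4, 3, 2, 1, 0, 1, 2, 3, 4, 7, 3, 2, 8, 7, 3, 4, 5, 5, 2, 3, 7, 8, 1, 2, 3, 7, 4, 3, 2, 1, 0, 1, 2, 3, 4, 7, 3, 2, 1, 8, 7, 3, 2, 4, 3, 7, 8, 1, 2, 3, 7, 4, 3, 2, 1, 0, 1, 2, 3, 4, 7, 3, 2, 1, 8, 7, 3, 4]),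
   (1238, 751, 84, 22, 2922, 1, [6, 5, 4, 3, 7, 8, 2, 3, 7, 4, 3, 2, 1, 2, 3, 4, 7, 3, 2, 8, 7, 3, 4, 5, 6, 5, 4, 3, 7, 8, 2, 3, 7, 4, 3, 2, 1, 0, 1, 2, 3, 4, 7, 3, 2, 8, 7, 3, 4, 5, 5, 0, 2, 3, 7, 8, 1, 2, 3, 7, 4, 3, 2, 1, 0, 1, 2, 3, 4, 7, 3, 2, 1, 8, 7, 3, 2, 4, 3, 7, 8, 1, 2, 3, 7, 4, 3, 2, 1, 0, 1, 2, 3, 4, 7, 3, 2, 1, 8, 7, 3, 4]),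
   (1238, 2853, 0, 2922, 22, 0, [6, 5, 4, 3, 7, 8, 2, 3, 7, 4, 3, 2, 1, 0, 1, 2, 3, 4, 7, 3, 2, 8, 7, 3, 4, 5, 6, 5, 4, 3, 7, 8, 2, 3, 7, 4, 3, 2, 1, 2, 3, 4, 7, 3, 2, 8, 7, 3, 4, 5, 6, 5, 6, 0]),
   (1238, 2853, 28, 2922, 22, 0, [6, 5, 4, 3, 7, 8, 2, 3, 7, 4, 3, 2, 1, 2, 3, 4, 7, 3, 2, 8, 7, 3, 4, 5, 6, 5, 4, 3, 7, 8, 2, 3, 7, 4, 3, 2, 1, 0, 1, 2, 3, 4, 7, 3, 2, 8, 7, 3, 4, 5, 5]),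
   (1238, 2881, 0, 2922, 22, 0, [6, 5, 4, 3, 7, 8, 2, 3, 7, 4, 3, 2, 1, 0, 1, 2, 3, 4, 7, 3, 2, 8, 7, 3, 4, 5, 6, 5, 4, 3, 7, 8, 2, 3, 7, 4, 3, 2, 1, 2, 3, 4, 7, 3, 2, 8, 7, 3, 4, 5, 6, 5, 6]),
   (1238, 2881, 28, 2922, 22, 0, [6, 5, 4, 3, 7, 8, 2, 3, 7, 4, 3, 2, 1, 2, 3, 4, 7, 3, 2, 8, 7, 3, 4, 5, 6, 5, 4, 3, 7, 8, 2, 3, 7, 4, 3, 2, 1, 0, 1, 2, 3, 4, 7, 3, 2, 8, 7, 3, 4, 5, 5, 0]),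
   (1238, 3211, 48, 22, 2922, 1, [6, 5, 4, 3, 7, 8, 2, 3, 7, 4, 3, 2, 1, 0, 1, 2, 3, 4, 7, 3, 2, 8, 7, 3, 4, 5, 6, 5, 4, 3, 7, 8, 2, 3, 7, 4, 3, 2, 1, 2, 3, 4, 7, 3, 2, 8, 7, 3, 4, 5, 6, 5, 6, 0, 2, 3, 7, 8, 1, 2, 3, 7, 4, 3, 2, 1, 0, 1, 2, 3, 4, 7, 3, 2, 1, 8, 7, 3, 2, 4, 3, 7, 8, 1, 2, 3, 7, 4, 3, 2, 1, 0, 1, 2, 3, 4, 7, 3, 2, 1, 8, 7, 3, 4]),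
   (1238, 3211, 84, 22, 2922, 1, [6, 5, 4, 3, 7, 8, 2, 3, 7, 4, 3, 2, 1, 0, 1, 2, 3, 4, 7, 3, 2, 8, 7, 3, 4, 5, 6, 5, 4, 3, 7, 8, 2, 3, 7, 4, 3, 2, 1, 2, 3, 4, 7, 3, 2, 8, 7, 3, 4, 5, 6, 5, 6, 2, 3, 7, 8, 1, 2, 3, 7, 4, 3, 2, 1, 0, 1, 2, 3, 4, 7, 3, 2, 1, 8, 7, 3, 2, 4, 3, 7, 8, 1, 2, 3, 7, 4, 3, 2, 1, 0, 1, 2, 3, 4, 7, 3, 2, 1, 8, 7, 3, 4]),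
   (1429, 635, 38, 28, 2922, 1, [6, 5, 4, 3, 7, 8, 2, 3, 7, 4, 3, 2, 1, 0, 1, 2, 3, 4, 7, 3, 2, 8, 7, 3, 4, 5, 6, 5, 4, 3, 7, 8, 2, 3, 7, 4, 3, 2, 1, 2, 3, 4, 7, 3, 2, 8, 7, 3, 4, 5, 5, 0, 2, 3, 7, 8, 1, 2, 3, 7, 4, 3, 2, 1, 0, 1, 2, 3, 4, 7, 3, 2, 1, 8, 7, 3, 2, 4, 3, 7, 8, 1, 2, 3, 7, 4, 3, 2, 1, 0, 1, 2, 3, 4, 7, 3, 2, 1, 8, 7, 3, 4]),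
   (1429, 635, 66, 28, 2922, 1, [6, 5, 4, 3, 7, 8, 2, 3, 7, 4, 3, 2, 1, 0, 1, 2, 3, 4, 7, 3, 2, 8, 7, 3, 4, 5, 6, 5, 4, 3, 7, 8, 2, 3, 7, 4, 3, 2, 1, 2, 3, 4, 7, 3, 2, 8, 7, 3, 4, 5, 5, 2, 3, 7, 8, 1, 2, 3, 7, 4, 3, 2, 1, 0, 1, 2, 3, 4, 7, 3, 2, 1, 8, 7, 3, 2, 4, 3, 7, 8, 1, 2, 3, 7, 4, 3, 2, 1, 0, 1, 2, 3, 4, 7, 3, 2, 1, 8, 7, 3, 4]),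
   (1429, 2853, 0, 2922, 28, 0, [6, 5, 4, 3, 7, 8, 2, 3, 7, 4, 3, 2, 1, 2, 3, 4, 7, 3, 2, 8, 7, 3, 4, 5, 6, 5, 4, 3, 7, 8, 2, 3, 7, 4, 3, 2, 1, 0, 1, 2, 3, 4, 7, 3, 2, 8, 7, 3, 4, 5, 6, 5, 6]),
   (1429, 2853, 22, 2922, 28, 0, [6, 5, 4, 3, 7, 8, 2, 3, 7, 4, 3, 2, 1, 0, 1, 2, 3, 4, 7, 3, 2, 8, 7, 3, 4, 5, 6, 5, 4, 3, 7, 8, 2, 3, 7, 4, 3, 2, 1, 2, 3, 4, 7, 3, 2, 8, 7, 3, 4, 5, 5, 0]),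
   (1429, 2881, 0, 2922, 28, 0, [6, 5, 4, 3, 7, 8, 2, 3, 7, 4, 3, 2, 1, 2, 3, 4, 7, 3, 2, 8, 7, 3, 4, 5, 6, 5, 4, 3, 7, 8, 2, 3, 7, 4, 3, 2, 1, 0, 1, 2, 3, 4, 7, 3, 2, 8, 7, 3, 4, 5, 6, 5, 6, 0]),
   (1429, 2881, 22, 2922, 28, 0, [6, 5, 4, 3, 7, 8, 2, 3, 7, 4, 3, 2, 1, 0, 1, 2, 3, 4, 7, 3, 2, 8, 7, 3, 4, 5, 6, 5, 4, 3, 7, 8, 2, 3, 7, 4, 3, 2, 1, 2, 3, 4, 7, 3, 2, 8, 7, 3, 4, 5, 5]),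
   (1429, 3211, 38, 28, 2922, 1, [6, 5, 4, 3, 7, 8, 2, 3, 7, 4, 3, 2, 1, 2, 3, 4, 7, 3, 2, 8, 7, 3, 4, 5, 6, 5, 4, 3, 7, 8, 2, 3, 7, 4, 3, 2, 1, 0, 1, 2, 3, 4, 7, 3, 2, 8, 7, 3, 4, 5, 6, 5, 6, 2, 3, 7, 8, 1, 2, 3, 7, 4, 3, 2, 1, 0, 1, 2, 3, 4, 7, 3, 2, 1, 8, 7, 3, 2, 4, 3, 7, 8, 1, 2, 3, 7, 4, 3, 2, 1, 0, 1, 2, 3, 4, 7, 3, 2, 1, 8, 7, 3, 4]),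
   (1429, 3211, 66, 28, 2922, 1, [6, 5, 4, 3, 7, 8, 2, 3, 7, 4, 3, 2, 1, 2, 3, 4, 7, 3, 2, 8, 7, 3, 4, 5, 6, 5, 4, 3, 7, 8, 2, 3, 7, 4, 3, 2, 1, 0, 1, 2, 3, 4, 7, 3, 2, 8, 7, 3, 4, 5, 6, 5, 6, 0, 2, 3, 7, 8, 1, 2, 3, 7, 4, 3, 2, 1, 0, 1, 2, 3, 4, 7, 3, 2, 1, 8, 7, 3, 2, 4, 3, 7, 8, 1, 2, 3, 7, 4, 3, 2, 1, 0, 1, 2, 3, 4, 7, 3, 2, 1, 8, 7, 3, 4]),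
   (2827, 1, 2854, 0, 2922, 0, [0]),
   (2827, 1, 2882, 0, 2922, 0, [6, 0]),
   (2827, 2, 2854, 0, 2922, 0, []),
   (2827, 2, 2882, 0, 2922, 0, [6]),
   (2827, 3113, 22, 2922, 0, 1, [0, 2, 3, 7, 8, 1, 2, 3, 7, 4, 3, 2, 1, 0, 1, 2, 3, 4, 7, 3, 2, 1, 8, 7, 3, 2, 4, 3, 7, 8, 1, 2, 3, 7, 4, 3, 2, 1, 0, 1, 2, 3, 4, 7, 3, 2, 1, 8, 7, 3, 4]),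
   (2827, 3113, 28, 2922, 0, 1, [2, 3, 7, 8, 1, 2, 3, 7, 4, 3, 2, 1, 0, 1, 2, 3, 4, 7, 3, 2, 1, 8, 7, 3, 2, 4, 3, 7, 8, 1, 2, 3, 7, 4, 3, 2, 1, 0, 1, 2, 3, 4, 7, 3, 2, 1, 8, 7, 3, 4]),
   (2827, 3151, 22, 2922, 0, 1, [6, 0, 2, 3, 7, 8, 1, 2, 3, 7, 4, 3, 2, 1, 0, 1, 2, 3, 4, 7, 3, 2, 1, 8, 7, 3, 2, 4, 3, 7, 8, 1, 2, 3, 7, 4, 3, 2, 1, 0, 1, 2, 3, 4, 7, 3, 2, 1, 8, 7, 3, 4]),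
   (2827, 3151, 28, 2922, 0, 1, [6, 2, 3, 7, 8, 1, 2, 3, 7, 4, 3, 2, 1, 0, 1, 2, 3, 4, 7, 3, 2, 1, 8, 7, 3, 2, 4, 3, 7, 8, 1, 2, 3, 7, 4, 3, 2, 1, 0, 1, 2, 3, 4, 7, 3, 2, 1, 8, 7, 3, 4]),
   (2838, 1, 2854, 0, 2882, 0, [5, 0]),
   (2838, 1, 2922, 0, 2882, 0, [6, 5, 6, 5, 0]),
   (2838, 2, 2854, 0, 2882, 0, [5]),
   (2838, 2, 2922, 0, 2882, 0, [6, 5, 6, 5]),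
   (2838, 3113, 38, 2882, 0, 1, [5, 0, 2, 3, 7, 8, 1, 2, 3, 7, 4, 3, 2, 1, 0, 1, 2, 3, 4, 7, 3, 2, 1, 8, 7, 3, 2, 4, 3, 7, 8, 1, 2, 3, 7, 4, 3, 2, 1, 0, 1, 2, 3, 4, 7, 3, 2, 1, 8, 7, 3, 4]),
   (2838, 3113, 48, 2882, 0, 1, [5, 2, 3, 7, 8, 1, 2, 3, 7, 4, 3, 2, 1, 0, 1, 2, 3, 4, 7, 3, 2, 1, 8, 7, 3, 2, 4, 3, 7, 8, 1, 2, 3, 7, 4, 3, 2, 1, 0, 1, 2, 3, 4, 7, 3, 2, 1, 8, 7, 3, 4]),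
   (2838, 3211, 38, 2882, 0, 1, [6, 5, 6, 5, 0, 2, 3, 7, 8, 1, 2, 3, 7, 4, 3, 2, 1, 0, 1, 2, 3, 4, 7, 3, 2, 1, 8, 7, 3, 2, 4, 3, 7, 8, 1, 2, 3, 7, 4, 3, 2, 1, 0, 1, 2, 3, 4, 7, 3, 2, 1, 8, 7, 3, 4]),
   (2838, 3211, 48, 2882, 0, 1, [6, 5, 6, 5, 2, 3, 7, 8, 1, 2, 3, 7, 4, 3, 2, 1, 0, 1, 2, 3, 4, 7, 3, 2, 1, 8, 7, 3, 2, 4, 3, 7, 8, 1, 2, 3, 7, 4, 3, 2, 1, 0, 1, 2, 3, 4, 7, 3, 2, 1, 8, 7, 3, 4]),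
   (2855, 1, 2882, 0, 2854, 0, [6, 5, 0]),
   (2855, 1, 2922, 0, 2854, 0, [6, 5, 6, 0]),
   (2855, 2, 2882, 0, 2854, 0, [6, 5]),
   (2855, 2, 2922, 0, 2854, 0, [6, 5, 6]),
   (2855, 3151, 66, 2854, 0, 1, [6, 5, 0, 2, 3, 7, 8, 1, 2, 3, 7, 4, 3, 2, 1, 0, 1, 2, 3, 4, 7, 3, 2, 1, 8, 7, 3, 2, 4, 3, 7, 8, 1, 2, 3, 7, 4, 3, 2, 1, 0, 1, 2, 3, 4, 7, 3, 2, 1, 8, 7, 3, 4]),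
   (2855, 3151, 84, 2854, 0, 1, [6, 5, 2, 3, 7, 8, 1, 2, 3, 7, 4, 3, 2, 1, 0, 1, 2, 3, 4, 7, 3, 2, 1, 8, 7, 3, 2, 4, 3, 7, 8, 1, 2, 3, 7, 4, 3, 2, 1, 0, 1, 2, 3, 4, 7, 3, 2, 1, 8, 7, 3, 4]),
   (2855, 3211, 66, 2854, 0, 1, [6, 5, 6, 0, 2, 3, 7, 8, 1, 2, 3, 7, 4, 3, 2, 1, 0, 1, 2, 3, 4, 7, 3, 2, 1, 8, 7, 3, 2, 4, 3, 7, 8, 1, 2, 3, 7, 4, 3, 2, 1, 0, 1, 2, 3, 4, 7, 3, 2, 1, 8, 7, 3, 4]),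
   (2855, 3211, 84, 2854, 0, 1, [6, 5, 6, 2, 3, 7, 8, 1, 2, 3, 7, 4, 3, 2, 1, 0, 1, 2, 3, 4, 7, 3, 2, 1, 8, 7, 3, 2, 4, 3, 7, 8, 1, 2, 3, 7, 4, 3, 2, 1, 0, 1, 2, 3, 4, 7, 3, 2, 1, 8, 7, 3, 4]),
   (3477, 635, 2854, 0, 2882, 1, [6, 5, 4, 3, 7, 8, 2, 3, 7, 4, 3, 2, 1, 0, 1, 2, 3, 4, 7, 3, 2, 8, 7, 3, 4, 5, 6, 4, 3, 7, 8, 2, 3, 7, 4, 3, 2, 1, 2, 3, 4, 7, 3, 2, 8, 7, 3, 4, 5, 0, 2, 3, 7, 8, 1, 2, 3, 7, 4, 3, 2, 1, 0, 1, 2, 3, 4, 7, 3, 2, 1, 8, 7, 3, 2, 4, 3, 7, 8, 1, 2, 3, 7, 4, 3, 2, 1, 0, 1, 2, 3, 4, 7, 3, 2, 1, 8, 7, 3, 4]),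
   (3477, 635, 2922, 0, 2882, 1, [6, 5, 4, 3, 7, 8, 2, 3, 7, 4, 3, 2, 1, 0, 1, 2, 3, 4, 7, 3, 2, 8, 7, 3, 4, 5, 6, 4, 3, 7, 8, 2, 3, 7, 4, 3, 2, 1, 2, 3, 4, 7, 3, 2, 8, 7, 3, 4, 5, 2, 3, 7, 8, 1, 2, 3, 7, 4, 3, 2, 1, 0, 1, 2, 3, 4, 7, 3, 2, 1, 8, 7, 3, 2, 4, 3, 7, 8, 1, 2, 3, 7, 4, 3, 2, 1, 0, 1, 2, 3, 4, 7, 3, 2, 1, 8, 7, 3, 4]),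
   (3477, 751, 2854, 0, 2882, 1, [6, 5, 4, 3, 7, 8, 2, 3, 7, 4, 3, 2, 1, 2, 3, 4, 7, 3, 2, 8, 7, 3, 4, 5, 6, 4, 3, 7, 8, 2, 3, 7, 4, 3, 2, 1, 0, 1, 2, 3, 4, 7, 3, 2, 8, 7, 3, 4, 5, 2, 3, 7, 8, 1, 2, 3, 7, 4, 3, 2, 1, 0, 1, 2, 3, 4, 7, 3, 2, 1, 8, 7, 3, 2, 4, 3, 7, 8, 1, 2, 3, 7, 4, 3, 2, 1, 0, 1, 2, 3, 4, 7, 3, 2, 1, 8, 7, 3, 4]),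
   (3477, 751, 2922, 0, 2882, 1, [6, 5, 4, 3, 7, 8, 2, 3, 7, 4, 3, 2, 1, 2, 3, 4, 7, 3, 2, 8, 7, 3, 4, 5, 6, 4, 3, 7, 8, 2, 3, 7, 4, 3, 2, 1, 0, 1, 2, 3, 4, 7, 3, 2, 8, 7, 3, 4, 5, 0, 2, 3, 7, 8, 1, 2, 3, 7, 4, 3, 2, 1, 0, 1, 2, 3, 4, 7, 3, 2, 1, 8, 7, 3, 2, 4, 3, 7, 8, 1, 2, 3, 7, 4, 3, 2, 1, 0, 1, 2, 3, 4, 7, 3, 2, 1, 8, 7, 3, 4]),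
   (3477, 2837, 38, 2882, 0, 0, [6, 5, 4, 3, 7, 8, 2, 3, 7, 4, 3, 2, 1, 0, 1, 2, 3, 4, 7, 3, 2, 8, 7, 3, 4, 5, 6, 4, 3, 7, 8, 2, 3, 7, 4, 3, 2, 1, 2, 3, 4, 7, 3, 2, 8, 7, 3, 4, 5, 0]),
   (3477, 2837, 48, 2882, 0, 0, [6, 5, 4, 3, 7, 8, 2, 3, 7, 4, 3, 2, 1, 2, 3, 4, 7, 3, 2, 8, 7, 3, 4, 5, 6, 4, 3, 7, 8, 2, 3, 7, 4, 3, 2, 1, 0, 1, 2, 3, 4, 7, 3, 2, 8, 7, 3, 4, 5]),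
   (3477, 2881, 38, 2882, 0, 0, [6, 5, 4, 3, 7, 8, 2, 3, 7, 4, 3, 2, 1, 0, 1, 2, 3, 4, 7, 3, 2, 8, 7, 3, 4, 5, 6, 4, 3, 7, 8, 2, 3, 7, 4, 3, 2, 1, 2, 3, 4, 7, 3, 2, 8, 7, 3, 4, 5]),
   (3477, 2881, 48, 2882, 0, 0, [6, 5, 4, 3, 7, 8, 2, 3, 7, 4, 3, 2, 1, 2, 3, 4, 7, 3, 2, 8, 7, 3, 4, 5, 6, 4, 3, 7, 8, 2, 3, 7, 4, 3, 2, 1, 0, 1, 2, 3, 4, 7, 3, 2, 8, 7, 3, 4, 5, 0]),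
   (3490, 635, 2854, 0, 2922, 1, [6, 5, 4, 3, 7, 8, 2, 3, 7, 4, 3, 2, 1, 0, 1, 2, 3, 4, 7, 3, 2, 8, 7, 3, 4, 5, 6, 5, 4, 3, 7, 8, 2, 3, 7, 4, 3, 2, 1, 2, 3, 4, 7, 3, 2, 8, 7, 3, 4, 5, 0, 2, 3, 7, 8, 1, 2, 3, 7, 4, 3, 2, 1, 0, 1, 2, 3, 4, 7, 3, 2, 1, 8, 7, 3, 2, 4, 3, 7, 8, 1, 2, 3, 7, 4, 3, 2, 1, 0, 1, 2, 3, 4, 7, 3, 2, 1, 8, 7, 3, 4]),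
   (3490, 635, 2882, 0, 2922, 1, [6, 5, 4, 3, 7, 8, 2, 3, 7, 4, 3, 2, 1, 0, 1, 2, 3, 4, 7, 3, 2, 8, 7, 3, 4, 5, 6, 5, 4, 3, 7, 8, 2, 3, 7, 4, 3, 2, 1, 2, 3, 4, 7, 3, 2, 8, 7, 3, 4, 5, 2, 3, 7, 8, 1, 2, 3, 7, 4, 3, 2, 1, 0, 1, 2, 3, 4, 7, 3, 2, 1, 8, 7, 3, 2, 4, 3, 7, 8, 1, 2, 3, 7, 4, 3, 2, 1, 0, 1, 2, 3, 4, 7, 3, 2, 1, 8, 7, 3, 4]),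
   (3490, 751, 2854, 0, 2922, 1, [6, 5, 4, 3, 7, 8, 2, 3, 7, 4, 3, 2, 1, 2, 3, 4, 7, 3, 2, 8, 7, 3, 4, 5, 6, 5, 4, 3, 7, 8, 2, 3, 7, 4, 3, 2, 1, 0, 1, 2, 3, 4, 7, 3, 2, 8, 7, 3, 4, 5, 2, 3, 7, 8, 1, 2, 3, 7, 4, 3, 2, 1, 0, 1, 2, 3, 4, 7, 3, 2, 1, 8, 7, 3, 2, 4, 3, 7, 8, 1, 2, 3, 7, 4, 3, 2, 1, 0, 1, 2, 3, 4, 7, 3, 2, 1, 8, 7, 3, 4]),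
   (3490, 751, 2882, 0, 2922, 1, [6, 5, 4, 3, 7, 8, 2, 3, 7, 4, 3, 2, 1, 2, 3, 4, 7, 3, 2, 8, 7, 3, 4, 5, 6, 5, 4, 3, 7, 8, 2, 3, 7, 4, 3, 2, 1, 0, 1, 2, 3, 4, 7, 3, 2, 8, 7, 3, 4, 5, 0, 2, 3, 7, 8, 1, 2, 3, 7, 4, 3, 2, 1, 0, 1, 2, 3, 4, 7, 3, 2, 1, 8, 7, 3, 2, 4, 3, 7, 8, 1, 2, 3, 7, 4, 3, 2, 1, 0, 1, 2, 3, 4, 7, 3, 2, 1, 8, 7, 3, 4]),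
   (3490, 2853, 22, 2922, 0, 0, [6, 5, 4, 3, 7, 8, 2, 3, 7, 4, 3, 2, 1, 0, 1, 2, 3, 4, 7, 3, 2, 8, 7, 3, 4, 5, 6, 5, 4, 3, 7, 8, 2, 3, 7, 4, 3, 2, 1, 2, 3, 4, 7, 3, 2, 8, 7, 3, 4, 5, 0]),
   (3490, 2853, 28, 2922, 0, 0, [6, 5, 4, 3, 7, 8, 2, 3, 7, 4, 3, 2, 1, 2, 3, 4, 7, 3, 2, 8, 7, 3, 4, 5, 6, 5, 4, 3, 7, 8, 2, 3, 7, 4, 3, 2, 1, 0, 1, 2, 3, 4, 7, 3, 2, 8, 7, 3, 4, 5]),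
   (3490, 2881, 22, 2922, 0, 0, [6, 5, 4, 3, 7, 8, 2, 3, 7, 4, 3, 2, 1, 0, 1, 2, 3, 4, 7, 3, 2, 8, 7, 3, 4, 5, 6, 5, 4, 3, 7, 8, 2, 3, 7, 4, 3, 2, 1, 2, 3, 4, 7, 3, 2, 8, 7, 3, 4, 5]),
   (3490, 2881, 28, 2922, 0, 0, [6, 5, 4, 3, 7, 8, 2, 3, 7, 4, 3, 2, 1, 2, 3, 4, 7, 3, 2, 8, 7, 3, 4, 5, 6, 5, 4, 3, 7, 8, 2, 3, 7, 4, 3, 2, 1, 0, 1, 2, 3, 4, 7, 3, 2, 8, 7, 3, 4, 5, 0]),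
   (3506, 635, 2882, 0, 2854, 1, [5, 4, 3, 7, 8, 2, 3, 7, 4, 3, 2, 1, 2, 3, 4, 7, 3, 2, 8, 7, 3, 4, 5, 4, 3, 7, 8, 2, 3, 7, 4, 3, 2, 1, 0, 1, 2, 3, 4, 7, 3, 2, 8, 7, 3, 4, 6, 5, 6, 2, 3, 7, 8, 1, 2, 3, 7, 4, 3, 2, 1, 0, 1, 2, 3, 4, 7, 3, 2, 1, 8, 7, 3, 2, 4, 3, 7, 8, 1, 2, 3, 7, 4, 3, 2, 1, 0, 1, 2, 3, 4, 7, 3, 2, 1, 8, 7, 3, 4]),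
   (3506, 635, 2922, 0, 2854, 1, [5, 4, 3, 7, 8, 2, 3, 7, 4, 3, 2, 1, 2, 3, 4, 7, 3, 2, 8, 7, 3, 4, 5, 4, 3, 7, 8, 2, 3, 7, 4, 3, 2, 1, 0, 1, 2, 3, 4, 7, 3, 2, 8, 7, 3, 4, 6, 5, 6, 0, 2, 3, 7, 8, 1, 2, 3, 7, 4, 3, 2, 1, 0, 1, 2, 3, 4, 7, 3, 2, 1, 8, 7, 3, 2, 4, 3, 7, 8, 1, 2, 3, 7, 4, 3, 2, 1, 0, 1, 2, 3, 4, 7, 3, 2, 1, 8, 7, 3, 4]),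
   (3506, 751, 2882, 0, 2854, 1, [5, 4, 3, 7, 8, 2, 3, 7, 4, 3, 2, 1, 0, 1, 2, 3, 4, 7, 3, 2, 8, 7, 3, 4, 5, 4, 3, 7, 8, 2, 3, 7, 4, 3, 2, 1, 2, 3, 4, 7, 3, 2, 8, 7, 3, 4, 6, 5, 6, 0, 2, 3, 7, 8, 1, 2, 3, 7, 4, 3, 2, 1, 0, 1, 2, 3, 4, 7, 3, 2, 1, 8, 7, 3, 2, 4, 3, 7, 8, 1, 2, 3, 7, 4, 3, 2, 1, 0, 1, 2, 3, 4, 7, 3, 2, 1, 8, 7, 3, 4]),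
   (3506, 751, 2922, 0, 2854, 1, [5, 4, 3, 7, 8, 2, 3, 7, 4, 3, 2, 1, 0, 1, 2, 3, 4, 7, 3, 2, 8, 7, 3, 4, 5, 4, 3, 7, 8, 2, 3, 7, 4, 3, 2, 1, 2, 3, 4, 7, 3, 2, 8, 7, 3, 4, 6, 5, 6, 2, 3, 7, 8, 1, 2, 3, 7, 4, 3, 2, 1, 0, 1, 2, 3, 4, 7, 3, 2, 1, 8, 7, 3, 2, 4, 3, 7, 8, 1, 2, 3, 7, 4, 3, 2, 1, 0, 1, 2, 3, 4, 7, 3, 2, 1, 8, 7, 3, 4]),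
   (3506, 2837, 66, 2854, 0, 0, [5, 4, 3, 7, 8, 2, 3, 7, 4, 3, 2, 1, 2, 3, 4, 7, 3, 2, 8, 7, 3, 4, 5, 4, 3, 7, 8, 2, 3, 7, 4, 3, 2, 1, 0, 1, 2, 3, 4, 7, 3, 2, 8, 7, 3, 4, 6, 5, 6]),
   (3506, 2837, 84, 2854, 0, 0, [5, 4, 3, 7, 8, 2, 3, 7, 4, 3, 2, 1, 0, 1, 2, 3, 4, 7, 3, 2, 8, 7, 3, 4, 5, 4, 3, 7, 8, 2, 3, 7, 4, 3, 2, 1, 2, 3, 4, 7, 3, 2, 8, 7, 3, 4, 6, 5, 6, 0]),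
   (3506, 2853, 66, 2854, 0, 0, [5, 4, 3, 7, 8, 2, 3, 7, 4, 3, 2, 1, 2, 3, 4, 7, 3, 2, 8, 7, 3, 4, 5, 4, 3, 7, 8, 2, 3, 7, 4, 3, 2, 1, 0, 1, 2, 3, 4, 7, 3, 2, 8, 7, 3, 4, 6, 5, 6, 0]),
   (3506, 2853, 84, 2854, 0, 0, [5, 4, 3, 7, 8, 2, 3, 7, 4, 3, 2, 1, 0, 1, 2, 3, 4, 7, 3, 2, 8, 7, 3, 4, 5, 4, 3, 7, 8, 2, 3, 7, 4, 3, 2, 1, 2, 3, 4, 7, 3, 2, 8, 7, 3, 4, 6, 5, 6])]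

/-- the test of the membership in the list of the tuples -/
noncomputable def tupMem (p4 p1 p5 p0 p6 : ℕ) : Bool :=
  anyListK tupL (fun e => Nat.beq e.1 p4 && (Nat.beq e.2.1 p1 && (Nat.beq e.2.2.1 p5 &&
    (Nat.beq e.2.2.2.1 p0 && Nat.beq e.2.2.2.2.1 p6))))

/-- the tuples of candidates which satisfy the relations are in the list -/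
noncomputable def finalChk : Bool :=
  allListK L4 fun p4 => allListK L1 fun p1 =>
    !(fixK p4 p1 == expK 4 1) ||
    allListK L5 fun p5 =>
      !(fixK p4 p5 == expK 4 5) || (!(fixK p1 p5 == expK 1 5) ||
      allListK L0 fun p0 =>
        !(fixK p4 p0 == expK 4 0) || (!(fixK p1 p0 == expK 1 0) || (!(fixK p5 p0 == expK 5 0) ||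
        allListK L6 fun p6 =>
          !(fixK p4 p6 == expK 4 6) || (!(fixK p1 p6 == expK 1 6) || (!(fixK p5 p6 == expK 5 6) ||
          (!(fixK p0 p6 == expK 0 6) || tupMem p4 p1 p5 p0 p6))))))

theorem final_ok : finalChk = true := by decide +kernel

theorem tup_ok : ∀ e ∈ tupL, (∀ s ∈ e.2.2.2.2.2.2, s < 9) ∧ e.2.2.2.2.2.1 < 2 ∧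
    (∀ k ∈ S4, Fn.applyW TT e.2.2.2.2.2.2 (tq e.2.2.2.2.2.1 k) = qp k) ∧
    Fn.applyW TT e.2.2.2.2.2.2 (tq e.2.2.2.2.2.1 4) = e.1 ∧
    Fn.applyW TT e.2.2.2.2.2.2 (tq e.2.2.2.2.2.1 1) = e.2.1 ∧
    Fn.applyW TT e.2.2.2.2.2.2 (tq e.2.2.2.2.2.1 5) = e.2.2.1 ∧
    Fn.applyW TT e.2.2.2.2.2.2 (tq e.2.2.2.2.2.1 0) = e.2.2.2.1 ∧
    Fn.applyW TT e.2.2.2.2.2.2 (tq e.2.2.2.2.2.1 6) = e.2.2.2.2.1 := by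
  decide +kernel

theorem scan4 : allBelowK cN (fun p => !(cand S4 4 p) || memK L4 p) = true := by decide +kernel

theorem scan1 : allBelowK cN (fun p => !(cand S4 1 p) || memK L1 p) = true := by decide +kernel

theorem scan5 : allBelowK cN (fun p => !(cand S4 5 p) || memK L5 p) = true := by decide +kernel

theorem scan0 : allBelowK cN (fun p => !(cand S4 0 p) || memK L0 p) = true := by decide +kernel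

theorem scan6 : allBelowK cN (fun p => !(cand S4 6 p) || memK L6 p) = true := by decide +kernel

end Cfsg.Agent.Lib.Helper12.OutFi22.FinalData
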