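import Cfsg.Agent.Lib.Helper12.OutFi22.P14
import Cfsg.Agent.Lib.Helper12.OutFi22.Tau

/-!
The automorphism of the presented group Fi22 which is induced by the automorphism of the graph is not inner: the images
of the generators other than the first one have no common fixed point on the `14080` cosets of the subgroup which these
generators generate (helper12).
-/

set_option autoImplicit false
set_option maxRecDepth 100000

namespace Cfsg.Agent.Lib.Helper12.OutFi22.NotInner

open Cfsg.Spor Cfsg.Agent.Lib.Helper12.TC Cfsg.Agent.Lib.Helper12.TC.Fi22o3510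
  Cfsg.Agent.Lib.Helper12.TC.Fi22Pres Cfsg.Agent.Lib.Helper12.Ord
  Cfsg.Agent.Lib.Helper12.Ord.Fi22Simple Cfsg.Agent.Lib.Helper12.OutFi22.Base
  Cfsg.Agent.Lib.Helper12.OutFi22.Transp Cfsg.Agent.Lib.Helper12.OutFi22.Tau
  Cfsg.Agent.Lib.Helper12.OutFi22.P14

/-- the generators of the image of the subgroup -/
def JL : List ℕ := [0, 1, 2, 3, 4, 5, 7, 8]

theorem hJL : ∀ j ∈ JL, j < 9 ∧ tn j < 9 ∧ tn (tn j) = j ∧ Nat.beq (T14 (tn j) 0) 0 = true := by
  decide +kernel

theorem nofix : allBelowK 14080 (fun z => !(allListK JL (fun j => Nat.beq (T14 j z) z))) = true := by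
  decide +kernel

theorem act14_v {k : ℕ} (hk : k < 9) {p : ℕ} (hp : p < n14) : act14 (v k) p = T14 k p := by
  have h := act14_word [k] (by
    intro s hs
    rw [List.mem_singleton.mp hs]
    exact hk) hp
  rw [wprod_cons, wprod_nil, mul_one] at h
  exact h

/-- the automorphism of the graph is not inner -/
theorem tau_not_inner : ¬ ∃ g : PresentedGroup R, ∀ x, tauE x = g * x * g⁻¹ := by
  rintro ⟨g, hg⟩
  have hz : act14 g 0 < n14 := act14_lt g hN14
  have key : allListK JL (fun j => Nat.beq (T14 j (act14 g 0)) (act14 g 0)) = true := by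
    rw [allListK_iff]
    intro j hj
    obtain ⟨hj9, ht9, htt, hfix⟩ := hJL j hj
    have h1 : act14 (v (tn j)) 0 = 0 := by
      rw [act14_v ht9 hN14]
      exact Nat.eq_of_beq_eq_true hfix
    have h2 := act14_conj_fix (y := g) h1
    rw [← hg, ← uu_eq_v (tn j) ht9, tauE_uu ht9, htt, uu_eq_v j hj9, act14_v hj9 hz] at h2
    rw [h2]
    exact Nat.beq_refl _
  have h3 := (allBelowK_iff _ _).mp nofix _ hz
  rw [key] at h3
  exact Bool.noConfusion h3

end Cfsg.Agent.Lib.Helper12.OutFi22.NotInner
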