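import Cfsg.Agent.Lib.Helper12.OutFi22.Rigid
import Cfsg.Agent.Lib.Helper12.OutFi22.Central
import Cfsg.Agent.Lib.Helper12.OutFi22.NotInner
import Cfsg.Prelude.Def_KGroupFacts

/-!
The group of the outer automorphisms of the presented group Fi22 has order two (helper12).
-/

set_option autoImplicit false

namespace Cfsg.Agent.Lib.Helper12.OutFi22.Main

open Cfsg Cfsg.Spor Cfsg.Agent.Lib.Helper12.TC Cfsg.Agent.Lib.Helper12.TC.Fi22o3510
  Cfsg.Agent.Lib.Helper12.Ord Cfsg.Agent.Lib.Helper12.Ord.Fi22Simple Cfsg.Agent.Lib.Helper12.OutFi22.Base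
  Cfsg.Agent.Lib.Helper12.OutFi22.Transp Cfsg.Agent.Lib.Helper12.OutFi22.Tau
  Cfsg.Agent.Lib.Helper12.OutFi22.Syl Cfsg.Agent.Lib.Helper12.OutFi22.Final

open scoped Pointwise

theorem factorization_card : (Nat.card (PresentedGroup R)).factorization 7 = 1 := by
  have hc : Nat.card (PresentedGroup R) = 64561751654400 := Fi22Order.card_eq
  rw [hc]
  have e : (64561751654400 : ℕ) = 7 ^ 1 * 9223107379200 := by norm_num
  rw [e, Nat.factorization_mul (by norm_num) (by norm_num), Nat.Prime.factorization_pow (by norm_num)]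
  have h : (9223107379200 : ℕ).factorization 7 = 0 :=
    Nat.factorization_eq_zero_of_not_dvd (by norm_num)
  rw [Finsupp.add_apply, h, Finsupp.single_eq_same]

theorem card_map_equiv (β : PresentedGroup R ≃* PresentedGroup R) (A : Subgroup (PresentedGroup R)) :
    Nat.card ↥(A.map β.toMonoidHom) = Nat.card ↥A :=
  (Nat.card_congr (A.equivMapOfInjective β.toMonoidHom β.injective).toEquiv).symm

/-- every automorphism maps the first generator to a transposition -/
theorem tt_class (β : PresentedGroup R ≃* PresentedGroup R) : β tt ∈ conjugatesOf tt := by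
  have hfin : Finite (PresentedGroup R) := Fi22Order.finite
  have hp : Fact (Nat.Prime 7) := ⟨by norm_num⟩
  have hord : orderOf sigma = 7 := orderOf_eq_prime sigma_pow7 sigma_ne_one
  have hc0 : Nat.card ↥(Subgroup.zpowers sigma) = 7 ^ (Nat.card (PresentedGroup R)).factorization 7 := by
    rw [factorization_card, pow_one, Nat.card_zpowers, hord]
  have hc1 : Nat.card ↥((Subgroup.zpowers sigma).map β.toMonoidHom) =
      7 ^ (Nat.card (PresentedGroup R)).factorization 7 := by
    rw [card_map_equiv, hc0]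
  obtain ⟨g, hg⟩ := MulAction.exists_smul_eq (PresentedGroup R) (Sylow.ofCard _ hc1) (Sylow.ofCard _ hc0)
  -- the automorphism after the conjugation
  set β' : PresentedGroup R ≃* PresentedGroup R := MulAut.conj g * β with hβ'
  have happ : ∀ x, β' x = g * β x * g⁻¹ := fun x => by
    rw [hβ', MulAut.mul_apply, MulAut.conj_apply]
  have hT : (Subgroup.zpowers sigma).map β'.toMonoidHom = Subgroup.zpowers sigma := by
    have h1 : MulAut.conj g • Subgroup.map β.toMonoidHom (Subgroup.zpowers sigma) = Subgroup.zpowers sigma := by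
      have h2 : ((g • Sylow.ofCard _ hc1 : Sylow 7 (PresentedGroup R)) : Subgroup (PresentedGroup R)) =
          ((Sylow.ofCard _ hc0 : Sylow 7 (PresentedGroup R)) : Subgroup (PresentedGroup R)) := by rw [hg]
      rw [Sylow.coe_subgroup_smul, Sylow.coe_ofCard, Sylow.coe_ofCard] at h2
      exact h2
    refine Eq.trans ?_ h1
    ext x
    constructor
    · rintro ⟨t, ht, rfl⟩
      refine (Subgroup.mem_smul_pointwise_iff_exists _ _ _).mpr ⟨β t, ⟨t, ht, rfl⟩, ?_⟩
      show MulAut.conj g (β t) = β' t
      rw [happ, MulAut.conj_apply]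
    · intro hx
      obtain ⟨s, hs, rfl⟩ := (Subgroup.mem_smul_pointwise_iff_exists _ _ _).mp hx
      obtain ⟨t, ht, rfl⟩ := hs
      refine ⟨t, ht, ?_⟩
      show β' t = MulAut.conj g (β t)
      rw [happ, MulAut.conj_apply]
  -- an element of the subgroup which is mapped to the element of order seven
  have hs : sigma ∈ (Subgroup.zpowers sigma).map β'.toMonoidHom := by
    rw [hT]
    exact Subgroup.mem_zpowers sigma
  obtain ⟨z, hz, hzs⟩ := hs
  have hzs' : β' z = sigma := hzs
  have hzt : z * tt = tt * z := by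
    obtain ⟨n, rfl⟩ := Subgroup.mem_zpowers_iff.mp hz
    have hc : Commute sigma tt := by
      rw [tt_eq_uu]
      exact (comm_gen_sigma (k := 0) (by norm_num)).symm
    exact hc.zpow_left n
  have ht1 : β' tt * sigma = sigma * β' tt := by
    rw [← hzs', ← map_mul, ← map_mul, hzt]
  have ht2 : β' tt * β' tt = 1 := by rw [← map_mul, tt_sq, map_one]
  have ht3 : β' tt ≠ 1 := fun h => tt_ne_one (β'.injective (h.trans (map_one β').symm))
  obtain ⟨p, hp⟩ := Central.isT_of_invol ht1 ht2 ht3
  have h5 := isT_conj hp g⁻¹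
  have e : g⁻¹ * β' tt * g⁻¹⁻¹ = β tt := by
    rw [happ]
    group
  rw [e] at h5
  exact (mem_conjugatesOf_iff _).mpr ⟨_, h5⟩

/-- every automorphism is inner up to the automorphism of the graph -/
theorem aut_cases (β : PresentedGroup R ≃* PresentedGroup R) : C β := Rigid.of_tt β (tt_class β)

theorem tauE_tauE (x : PresentedGroup R) : tauE (tauE x) = x := by
  rw [tauE_apply, tauE_apply]
  have := congrArg (fun f => f x) tauHom_comp
  exact this

theorem card_out : Nat.card (Cfsg.Out Cfsg.Spor.Fi22) = 2 := by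
  show (Cfsg.Inn (PresentedGroup R)).index = 2
  rw [Subgroup.index_eq_two_iff]
  refine ⟨tauE, fun β => ?_⟩
  rcases aut_cases β with ⟨g, hg⟩ | ⟨g, hg⟩
  · right
    refine ⟨⟨g, ?_⟩, ?_⟩
    · ext x
      rw [MulAut.conj_apply, hg]
    · rintro ⟨g', hg'⟩
      apply NotInner.tau_not_inner
      refine ⟨g⁻¹ * g', fun x => ?_⟩
      have h1 := congrArg (fun f => f x) hg'
      simp only [MulAut.conj_apply, MulAut.mul_apply] at h1
      rw [hg] at h1
      have h2 : tauE x = g⁻¹ * (g * tauE x * g⁻¹) * g := by group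
      rw [h2, ← h1]
      group
  · left
    refine ⟨⟨g, ?_⟩, ?_⟩
    · ext x
      rw [MulAut.conj_apply, MulAut.mul_apply, hg, tauE_tauE]
    · rintro ⟨g', hg'⟩
      apply NotInner.tau_not_inner
      refine ⟨g⁻¹ * g', fun x => ?_⟩
      have h1 := congrArg (fun f => f x) hg'
      simp only [MulAut.conj_apply] at h1
      rw [hg] at h1
      have h2 : tauE x = g⁻¹ * (g * tauE x * g⁻¹) * g := by group
      rw [h2, ← h1]
      group

end Cfsg.Agent.Lib.Helper12.OutFi22.Main
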