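import Cfsg.Agent.Lib.Helper12.OutFi22.Base

/-!
The transpositions of the presented group Fi22 and the points of its permutation representation of degree `3510`:
an automorphism which preserves the class of the transpositions is determined by the points of the images of the
generators; the steps of the chain of the stabilisers of these points (helper12).
-/

set_option autoImplicit false
set_option maxRecDepth 100000

namespace Cfsg.Agent.Lib.Helper12.OutFi22.Transp

open Cfsg.Spor Cfsg.Agent.Lib.Helper12.TC Cfsg.Agent.Lib.Helper12.TC.Fi22o3510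
  Cfsg.Agent.Lib.Helper12.TC.Fi22Pres Cfsg.Agent.Lib.Helper12.Ord
  Cfsg.Agent.Lib.Helper12.Ord.Fi22Simple Cfsg.Agent.Lib.Helper12.OutFi22.Base

/-- the action on the natural numbers: the numbers which are not points are fixed -/
noncomputable def act (x : PresentedGroup R) (p : ℕ) : ℕ :=
  if h : p < cN then ((rho x ⟨p, h⟩ : Fin cN) : ℕ) else p

theorem act_of_lt (x : PresentedGroup R) {p : ℕ} (h : p < cN) : act x p = ((rho x ⟨p, h⟩ : Fin cN) : ℕ) := by
  unfold act
  rw [dif_pos h]

theorem act_lt (x : PresentedGroup R) {p : ℕ} (h : p < cN) : act x p < cN := by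
  rw [act_of_lt x h]
  exact (rho x ⟨p, h⟩).isLt

theorem act_one (p : ℕ) : act 1 p = p := by
  unfold act
  split
  · rw [map_one]; rfl
  · rfl

theorem act_mul (x y : PresentedGroup R) (p : ℕ) : act (x * y) p = act x (act y p) := by
  by_cases h : p < cN
  · rw [act_of_lt _ h, act_of_lt y h, act_of_lt x (rho y ⟨p, h⟩).isLt, map_mul, Equiv.Perm.mul_apply]
  · unfold act
    rw [dif_neg h, dif_neg h, dif_neg h]

theorem act_inv_act (x : PresentedGroup R) (p : ℕ) : act x⁻¹ (act x p) = p := by
  rw [← act_mul, inv_mul_cancel, act_one]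

theorem act_act_inv (x : PresentedGroup R) (p : ℕ) : act x (act x⁻¹ p) = p := by
  rw [← act_mul, mul_inv_cancel, act_one]

theorem act_inv_of_fix {x : PresentedGroup R} {p : ℕ} (h : act x p = p) : act x⁻¹ p = p := by
  have := act_inv_act x p
  rw [h] at this
  exact this

theorem act_injective (x : PresentedGroup R) {p p' : ℕ} (h : act x p = act x p') : p = p' := by
  have := congrArg (act x⁻¹) h
  rw [act_inv_act, act_inv_act] at this
  exact this

theorem act_word (w : List ℕ) (hw : ∀ s ∈ w, s < 21) {p : ℕ} (h : p < cN) :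
    act (wprod uu w) p = Fn.applyW TT w p := by
  rw [act_of_lt _ h, Fn.rho_word uu rho rho_uu w hw]

/-- an element which fixes all points is trivial -/
theorem eq_one_of_act {x : PresentedGroup R} (h : ∀ p < cN, act x p = p) : x = 1 := by
  apply Fi22Order.rho_injective
  rw [map_one]
  ext i
  have := h i.val i.isLt
  rw [act_of_lt x i.isLt] at this
  exact this

/-- the element `e` is the transposition of the point `p` -/
def IsT (e : PresentedGroup R) (p : ℕ) : Prop := ∃ g : PresentedGroup R, e = g * tt * g⁻¹ ∧ act g 0 = p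

theorem isT_lt {e : PresentedGroup R} {p : ℕ} (h : IsT e p) : p < cN := by
  obtain ⟨g, _, rfl⟩ := h
  exact act_lt g hN0

theorem mem_Hs_fix {h : PresentedGroup R} (hh : h ∈ Hs) : act h 0 = 0 := by
  obtain ⟨Φ, hΦ⟩ := rho_equiv
  rw [act_of_lt h hN0]
  have h1 : ((h : PresentedGroup R) : PresentedGroup R ⧸ Hs) = ((1 : PresentedGroup R) : PresentedGroup R ⧸ Hs) := by
    rw [QuotientGroup.eq]
    simpa using hh
  have h2 := congrArg Φ h1
  rw [hΦ, hΦ, map_one] at h2
  rw [h2]
  rfl

theorem fix_iff_comm (g : PresentedGroup R) : act g 0 = 0 ↔ g * tt = tt * g := by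
  constructor
  · intro h
    apply central
    apply mem_Hs_of_fix
    apply Fin.ext
    rw [act_of_lt g hN0] at h
    exact h
  · intro h
    apply mem_Hs_fix
    rw [← centralizer_tt, Subgroup.mem_centralizer_singleton_iff]
    exact h

/-- the commuting of an element with a transposition -/
theorem comm_iff {e : PresentedGroup R} {p : ℕ} (h : IsT e p) (x : PresentedGroup R) :
    x * e = e * x ↔ act x p = p := by
  obtain ⟨g, rfl, rfl⟩ := h
  have h1 : x * (g * tt * g⁻¹) = g * tt * g⁻¹ * x ↔ (g⁻¹ * x * g) * tt = tt * (g⁻¹ * x * g) := by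
    constructor
    · intro h
      have : g⁻¹ * (x * (g * tt * g⁻¹)) * g = g⁻¹ * (g * tt * g⁻¹ * x) * g := by rw [h]
      have e1 : g⁻¹ * (x * (g * tt * g⁻¹)) * g = (g⁻¹ * x * g) * tt := by group
      have e2 : g⁻¹ * (g * tt * g⁻¹ * x) * g = tt * (g⁻¹ * x * g) := by group
      rw [e1, e2] at this
      exact this
    · intro h
      have e1 : x * (g * tt * g⁻¹) = g * ((g⁻¹ * x * g) * tt) * g⁻¹ := by group
      have e2 : g * tt * g⁻¹ * x = g * (tt * (g⁻¹ * x * g)) * g⁻¹ := by group
      rw [e1, e2, h]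
  rw [h1, ← fix_iff_comm, act_mul, act_mul]
  constructor
  · intro h
    have := congrArg (act g) h
    rw [← act_mul, mul_inv_cancel, act_one] at this
    exact this
  · intro h
    rw [h, act_inv_act]

theorem point_unique {e : PresentedGroup R} {p p' : ℕ} (h : IsT e p) (h' : IsT e p') : p = p' := by
  obtain ⟨g, rfl, rfl⟩ := h
  obtain ⟨g', hg', rfl⟩ := h'
  have h1 : (g'⁻¹ * g) * tt = tt * (g'⁻¹ * g) := by
    have e1 : (g'⁻¹ * g) * tt = g'⁻¹ * (g * tt * g⁻¹) * g := by group
    rw [e1, hg']
    group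
  have h2 := (fix_iff_comm _).mpr h1
  rw [act_mul] at h2
  have := congrArg (act g') h2
  rw [← act_mul, mul_inv_cancel, act_one] at this
  exact this

theorem elt_unique {e e' : PresentedGroup R} {p : ℕ} (h : IsT e p) (h' : IsT e' p) : e = e' := by
  obtain ⟨g, rfl, rfl⟩ := h
  obtain ⟨g', rfl, hp⟩ := h'
  have h2 : act (g'⁻¹ * g) 0 = 0 := by
    rw [act_mul, ← hp, act_inv_act]
  have h1 := (fix_iff_comm _).mp h2
  have e1 : g * tt * g⁻¹ = g' * ((g'⁻¹ * g) * tt) * g⁻¹ := by group
  rw [e1, h1]
  group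

theorem isT_conj {e : PresentedGroup R} {p : ℕ} (h : IsT e p) (x : PresentedGroup R) :
    IsT (x * e * x⁻¹) (act x p) := by
  obtain ⟨g, rfl, rfl⟩ := h
  exact ⟨x * g, by group, act_mul x g 0⟩

theorem isT_tt : IsT tt 0 := ⟨1, by group, act_one 0⟩

/-- the point of a generator -/
def qp (k : ℕ) : ℕ := qpts.getD k 0

theorem qp_lt : ∀ k < 9, qp k < cN := by decide

theorem isT_gen {k : ℕ} (hk : k < 9) : IsT (uu k) (qp k) := by
  refine ⟨wprod v (cw k), ?_, ?_⟩
  · rw [uu_gen k hk]
    exact conj_gen k hk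
  · rw [act_of_lt _ hN0, Fn.rho_word v rho rho_v (cw k) (cw_lt k hk)]
    exact cw_pt k hk

theorem ne_one_of_isT {e : PresentedGroup R} {p : ℕ} (h : IsT e p) : e ≠ 1 := by
  obtain ⟨g, rfl, _⟩ := h
  intro h1
  apply tt_ne_one
  have : tt = g⁻¹ * (g * tt * g⁻¹) * g := by group
  rw [this, h1]
  group

theorem sq_of_isT {e : PresentedGroup R} {p : ℕ} (h : IsT e p) : e * e = 1 := by
  obtain ⟨g, rfl, _⟩ := h
  have : g * tt * g⁻¹ * (g * tt * g⁻¹) = g * (tt * tt) * g⁻¹ := by group
  rw [this, tt_sq, mul_one, mul_inv_cancel]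

theorem mem_conjugatesOf_iff (e : PresentedGroup R) : e ∈ conjugatesOf tt ↔ ∃ p, IsT e p := by
  show IsConj tt e ↔ _
  rw [isConj_iff]
  constructor
  · rintro ⟨c, hc⟩
    exact ⟨_, c, hc.symm, rfl⟩
  · rintro ⟨_, c, hc, _⟩
    exact ⟨c, hc.symm⟩

theorem wprod_reverse_lt (w : List ℕ) (hw : ∀ s ∈ w, s < 9) : wprod uu w.reverse = (wprod uu w)⁻¹ := by
  rw [wprod_uu_eq w hw, wprod_uu_eq w.reverse (fun s hs => hw s (List.mem_reverse.mp hs))]
  exact wprod_reverse_of_invol v hvsq w

/-- the transposition of the image of the point of a generator under a word -/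
theorem isT_word (w : List ℕ) (hw : ∀ s ∈ w, s < 9) {k : ℕ} (hk : k < 9) :
    IsT (wprod uu (w ++ k :: w.reverse)) (Fn.applyW TT w (qp k)) := by
  rw [wprod_append, wprod_cons, wprod_reverse_lt w hw, ← mul_assoc,
    ← act_word w (fun s hs => lt_trans (hw s hs) (by norm_num)) (qp_lt k hk)]
  exact isT_conj (isT_gen hk) _

/-- the automorphisms which preserve the class of the transpositions -/
def Pres (β : PresentedGroup R ≃* PresentedGroup R) : Prop :=
  ∀ e p, IsT e p → ∃ p', IsT (β e) p'

theorem pres_of_tt (β : PresentedGroup R ≃* PresentedGroup R) (h : β tt ∈ conjugatesOf tt) : Pres β := by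
  rw [mem_conjugatesOf_iff] at h
  obtain ⟨p0, h0⟩ := h
  rintro _ _ ⟨g, rfl, rfl⟩
  have h1 := isT_conj h0 (β g)
  rw [← map_inv, ← map_mul, ← map_mul] at h1
  exact ⟨_, h1⟩

/-- two automorphisms which agree on the generators are equal -/
theorem eq_of_gens (β β' : PresentedGroup R ≃* PresentedGroup R) (h : ∀ k < 9, β (uu k) = β' (uu k)) :
    ∀ x, β x = β' x := by
  have h1 : β.toMonoidHom = β'.toMonoidHom := by
    apply PresentedGroup.ext
    intro y
    obtain ⟨hy1, hy2⟩ := hidx y
    have e : uu (idx y) = PresentedGroup.of y := by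
      rw [uu_gen (idx y) hy1, hy2]
      rfl
    rw [← e]
    exact h _ hy1
  intro x
  exact congrArg (fun f => f x) h1

/-- a property of automorphisms which is preserved by the multiplication with inner automorphisms -/
def Good (C : (PresentedGroup R ≃* PresentedGroup R) → Prop) : Prop :=
  ∀ (g : PresentedGroup R) (β : PresentedGroup R ≃* PresentedGroup R), C (MulAut.conj g⁻¹ * β) → C β

/-- the statement for the automorphisms which fix the generators of a list -/
def Q (C : (PresentedGroup R ≃* PresentedGroup R) → Prop) (S : List ℕ) : Prop :=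
  ∀ β : PresentedGroup R ≃* PresentedGroup R, Pres β → (∀ k ∈ S, β (uu k) = uu k) → C β

/-- the reduction by an inner automorphism -/
theorem reduce (C : (PresentedGroup R ≃* PresentedGroup R) → Prop) (hC : Good C)
    (β : PresentedGroup R ≃* PresentedGroup R) (hP : Pres β) (g : PresentedGroup R) (S : List ℕ)
    (hS : ∀ k ∈ S, k < 9 ∧ IsT (β (uu k)) (act g (qp k))) (hQ : Q C S) : C β := by
  have hP' : Pres (MulAut.conj g⁻¹ * β) := by
    intro e p he
    obtain ⟨p', hp'⟩ := hP e p he
    have h1 := isT_conj hp' g⁻¹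
    rw [← MulAut.conj_apply, ← MulAut.mul_apply] at h1
    exact ⟨_, h1⟩
  have hfix : ∀ k ∈ S, (MulAut.conj g⁻¹ * β) (uu k) = uu k := by
    intro k hk
    obtain ⟨hk9, hT⟩ := hS k hk
    have h1 := elt_unique hT (isT_conj (isT_gen hk9) g)
    rw [MulAut.mul_apply, MulAut.conj_apply, h1]
    group
  exact hC g β (hQ _ hP' hfix)

/-- the test of the candidates for the point of the image of the generator `n` -/
noncomputable def cand (S : List ℕ) (n p : ℕ) : Bool :=
  allListK S (fun k => (Nat.beq (TT k p) p == Nat.beq (TT k (qp n)) (qp n)) && !(Nat.beq p (qp k)))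

theorem TT_eq_iff {k : ℕ} (hk : k < 9) {p : ℕ} (hp : p < cN) : Nat.beq (TT k p) p = true ↔ act (uu k) p = p := by
  rw [act_of_lt _ hp, rho_uu k (lt_trans hk (by norm_num))]
  exact ⟨Nat.eq_of_beq_eq_true, fun h => by rw [h]; exact Nat.beq_refl p⟩

theorem bool_eq_of_iff {a b : Bool} (h : a = true ↔ b = true) : (a == b) = true := by
  cases a <;> cases b <;> simp_all

theorem comm_gen_iff (β : PresentedGroup R ≃* PresentedGroup R) (k n : ℕ) :
    β (uu k) * β (uu n) = β (uu n) * β (uu k) ↔ uu k * uu n = uu n * uu k := by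
  rw [← map_mul, ← map_mul]
  exact β.injective.eq_iff

/-- the point of the image of a generator is a candidate -/
theorem cand_of_fix (β : PresentedGroup R ≃* PresentedGroup R) (S : List ℕ)
    (hS : ∀ k ∈ S, k < 9 ∧ β (uu k) = uu k) {n : ℕ} (hn : n < 9) (hne : ∀ k ∈ S, qp k ≠ qp n)
    {p : ℕ} (hp : IsT (β (uu n)) p) : cand S n p = true := by
  unfold cand
  rw [allListK_iff]
  intro k hk
  obtain ⟨hk9, hfix⟩ := hS k hk
  have hplt := isT_lt hp
  rw [Bool.and_eq_true]
  constructor
  · apply bool_eq_of_iff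
    rw [TT_eq_iff hk9 hplt, TT_eq_iff hk9 (qp_lt n hn), ← comm_iff hp, ← comm_iff (isT_gen hn)]
    have := comm_gen_iff β k n
    rw [hfix] at this
    exact this
  · rw [Bool.not_eq_true']
    cases hb : Nat.beq p (qp k)
    · rfl
    · exfalso
      have e : p = qp k := Nat.eq_of_beq_eq_true hb
      rw [e] at hp
      have h1 := elt_unique hp (isT_gen hk9)
      rw [← hfix] at h1
      have h2 := β.injective h1
      have h3 := isT_gen hn
      rw [h2] at h3
      exact hne k hk (point_unique (isT_gen hk9) h3)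

/-- the points of the orbit of the point of the generator `n` under the stabiliser of the points of the list -/
def Reach (S : List ℕ) (n p : ℕ) : Prop :=
  ∃ g : PresentedGroup R, (∀ k ∈ S, act g (qp k) = qp k) ∧ act g (qp n) = p

/-- a step of the chain of the stabilisers -/
theorem step (C : (PresentedGroup R ≃* PresentedGroup R) → Prop) (hC : Good C)
    (S : List ℕ) (n : ℕ) (hS : ∀ k ∈ S, k < 9) (hn : n < 9) (hne : ∀ k ∈ S, qp k ≠ qp n)
    (hreach : ∀ p < cN, cand S n p = true → Reach S n p) (hQ : Q C (n :: S)) : Q C S := by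
  intro β hP hfix
  obtain ⟨p, hp⟩ := hP _ _ (isT_gen hn)
  have hc := cand_of_fix β S (fun k hk => ⟨hS k hk, hfix k hk⟩) hn hne hp
  obtain ⟨g, hg1, hg2⟩ := hreach p (isT_lt hp) hc
  apply reduce C hC β hP g (n :: S) _ hQ
  intro k hk
  rcases List.mem_cons.mp hk with rfl | hk
  · refine ⟨hn, ?_⟩
    rw [hg2]
    exact hp
  · refine ⟨hS k hk, ?_⟩
    rw [hg1 k hk, hfix k hk]
    exact isT_gen (hS k hk)

end Cfsg.Agent.Lib.Helper12.OutFi22.Transp
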