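import Cfsg.Agent.Lib.Helper12.TC.Fi22x14080.Main
import Cfsg.Agent.Lib.Helper12.TC.Fn.Rho
import Cfsg.Agent.Lib.Helper12.OutFi22.Transp

/-!
The permutation representation of the presented group Fi22 on the `14080` cosets of the subgroup which is generated by
the generators other than the first one (helper12).
-/

set_option autoImplicit false
set_option maxRecDepth 100000

namespace Cfsg.Agent.Lib.Helper12.OutFi22.P14

open Cfsg.Spor Cfsg.Agent.Lib.Helper12.TC Cfsg.Agent.Lib.Helper12.TC.Fi22Pres Cfsg.Agent.Lib.Helper12.Ord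
  Cfsg.Agent.Lib.Helper12.Ord.Fi22Simple

/-- the number of the points -/
abbrev n14 : ℕ := Fi22x14080.cN

/-- the table -/
noncomputable abbrev T14 : ℕ → ℕ → ℕ := Fi22x14080.TT

theorem hN14 : 0 < n14 := by decide

theorem mainRho : ∃ ρ : PresentedGroup R →* Equiv.Perm (Fin n14),
    (∀ x < 9, ∀ i : Fin n14, ((ρ (PresentedGroup.mk R (FreeGroup.of (gen x))) i : Fin n14) : ℕ) = T14 x i) ∧
    ((Subgroup.closure Fi22x14080.S).map (PresentedGroup.mk R)).index = n14 ∧
    ∃ Φ : (PresentedGroup R ⧸ (Subgroup.closure Fi22x14080.S).map (PresentedGroup.mk R)) ≃ Fin n14,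
      ∀ γ : PresentedGroup R,
        Φ (γ : PresentedGroup R ⧸ (Subgroup.closure Fi22x14080.S).map (PresentedGroup.mk R)) = ρ γ ⟨0, hN14⟩ :=
  Fn.presented_rho Cfsg.Spor.Fi22.edges Cfsg.Spor.Fi22.extra gen idx 9 (by decide) hidx hgi hnodes
    extraWords hextra Fi22x14080.sw Fi22x14080.S Fi22x14080.hS Fi22x14080.F Fi22x14080.RW Fi22x14080.finrecs
    Fi22x14080.TT Fi22x14080.rotW Fi22x14080.chunks Fi22x14080.cD Fi22x14080.cK Fi22x14080.cR0 Fi22x14080.cR
    Fi22x14080.cN Fi22x14080.hdefs Fi22x14080.hchunks Fi22x14080.hcover Fi22x14080.hrelc Fi22x14080.hlet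
    Fi22x14080.hperm Fi22x14080.hrels Fi22x14080.hsub Fi22x14080.htrans Fi22x14080.hfin Fi22x14080.hlen hN14

/-- the permutation representation -/
noncomputable def rho14 : PresentedGroup R →* Equiv.Perm (Fin n14) := mainRho.choose

theorem rho14_v : ∀ x < 9, ∀ i : Fin n14, ((rho14 (v x) i : Fin n14) : ℕ) = T14 x i := mainRho.choose_spec.1

/-- the action on the natural numbers: the numbers which are not points are fixed -/
noncomputable def act14 (x : PresentedGroup R) (p : ℕ) : ℕ :=
  if h : p < n14 then ((rho14 x ⟨p, h⟩ : Fin n14) : ℕ) else p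

theorem act14_of_lt (x : PresentedGroup R) {p : ℕ} (h : p < n14) :
    act14 x p = ((rho14 x ⟨p, h⟩ : Fin n14) : ℕ) := by
  unfold act14
  rw [dif_pos h]

theorem act14_lt (x : PresentedGroup R) {p : ℕ} (h : p < n14) : act14 x p < n14 := by
  rw [act14_of_lt x h]
  exact (rho14 x ⟨p, h⟩).isLt

theorem act14_one (p : ℕ) : act14 1 p = p := by
  unfold act14
  split
  · rw [map_one]; rfl
  · rfl

theorem act14_mul (x y : PresentedGroup R) (p : ℕ) : act14 (x * y) p = act14 x (act14 y p) := by
  by_cases h : p < n14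
  · rw [act14_of_lt _ h, act14_of_lt y h, act14_of_lt x (rho14 y ⟨p, h⟩).isLt, map_mul, Equiv.Perm.mul_apply]
  · unfold act14
    rw [dif_neg h, dif_neg h, dif_neg h]

theorem act14_inv_act (x : PresentedGroup R) (p : ℕ) : act14 x⁻¹ (act14 x p) = p := by
  rw [← act14_mul, inv_mul_cancel, act14_one]

theorem act14_word (w : List ℕ) (hw : ∀ s ∈ w, s < 9) {p : ℕ} (h : p < n14) :
    act14 (wprod v w) p = Fn.applyW T14 w p := by
  rw [act14_of_lt _ h, Fn.rho_word v rho14 rho14_v w hw]

/-- the image of a fixed point of an element is a fixed point of the conjugate -/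
theorem act14_conj_fix {x y : PresentedGroup R} {p : ℕ} (h : act14 x p = p) :
    act14 (y * x * y⁻¹) (act14 y p) = act14 y p := by
  rw [act14_mul, act14_mul, act14_inv_act, h]

end Cfsg.Agent.Lib.Helper12.OutFi22.P14
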