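import Cfsg.Agent.Lib.Helper12.OutFi22.CertChk
import Cfsg.Agent.Lib.Helper12.OutFi22.Final

/-!
The automorphisms of the presented group Fi22 which preserve the class of the transpositions are inner up to the
automorphism of the graph: the chain of the stabilisers of the points of the generators (helper12).
-/

set_option autoImplicit false
set_option maxRecDepth 100000

namespace Cfsg.Agent.Lib.Helper12.OutFi22.Rigid

open Cfsg.Spor Cfsg.Agent.Lib.Helper12.TC Cfsg.Agent.Lib.Helper12.TC.Fi22o3510
  Cfsg.Agent.Lib.Helper12.TC.Fi22Pres Cfsg.Agent.Lib.Helper12.Ord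
  Cfsg.Agent.Lib.Helper12.Ord.Fi22Simple Cfsg.Agent.Lib.Helper12.OutFi22.Base
  Cfsg.Agent.Lib.Helper12.OutFi22.Transp Cfsg.Agent.Lib.Helper12.OutFi22.Cert
  Cfsg.Agent.Lib.Helper12.OutFi22.CertData Cfsg.Agent.Lib.Helper12.OutFi22.Final

theorem good1 : GoodWords [3] gw1 := by
  unfold GoodWords
  decide +kernel

theorem good2 : GoodWords [7, 3] gw2 := by
  unfold GoodWords
  decide +kernel

theorem good3 : GoodWords [8, 7, 3] gw3 := by
  unfold GoodWords
  decide +kernel

theorem reach1 : ∀ p < cN, cand [3] 7 p = true → Reach [3] 7 p :=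
  reach_of_chk [3] 7 gw1 (dt 0) (by decide) good1 ((allBelowK_iff _ _).mp CertChk.chk1)

theorem reach2 : ∀ p < cN, cand [7, 3] 8 p = true → Reach [7, 3] 8 p :=
  reach_of_chk [7, 3] 8 gw2 (dt 1) (by decide) good2 ((allBelowK_iff _ _).mp CertChk.chk2)

theorem reach3 : ∀ p < cN, cand [8, 7, 3] 2 p = true → Reach [8, 7, 3] 2 p :=
  reach_of_chk [8, 7, 3] 2 gw3 (dt 2) (by decide) good3 ((allBelowK_iff _ _).mp CertChk.chk3)

/-- the chain of the stabilisers -/
theorem rigid : Q C [] := by
  apply step C good_C [] 3 (by decide) (by norm_num) (by decide) (reach_nil 3 (by norm_num))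
  apply step C good_C [3] 7 (by decide) (by norm_num) (by decide) reach1
  apply step C good_C [7, 3] 8 (by decide) (by norm_num) (by decide) reach2
  apply step C good_C [8, 7, 3] 2 (by decide) (by norm_num) (by decide) reach3
  exact Final.final

/-- an automorphism which maps the first generator to a conjugate is inner up to the automorphism of the graph -/
theorem of_tt (β : PresentedGroup R ≃* PresentedGroup R) (h : β tt ∈ conjugatesOf tt) : C β :=
  rigid β (pres_of_tt β h) (fun _ hk => absurd hk List.not_mem_nil)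

end Cfsg.Agent.Lib.Helper12.OutFi22.Rigid
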