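import Cfsg.Agent.Lib.Helper12.OutFi22.SylChk

/-!
The centraliser of an element of order seven of the presented group Fi22: it is the direct product of the group of
order seven and the group which is generated by the first two generators, so its involutions are transpositions
(helper12).
-/

set_option autoImplicit false
set_option maxRecDepth 100000

namespace Cfsg.Agent.Lib.Helper12.OutFi22.Syl

open Cfsg.Spor Cfsg.Agent.Lib.Helper12.TC Cfsg.Agent.Lib.Helper12.TC.Fi22o3510
  Cfsg.Agent.Lib.Helper12.TC.Fi22Pres Cfsg.Agent.Lib.Helper12.Ord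
  Cfsg.Agent.Lib.Helper12.Ord.Fi22Simple Cfsg.Agent.Lib.Helper12.OutFi22.Base
  Cfsg.Agent.Lib.Helper12.OutFi22.Transp Cfsg.Agent.Lib.Helper12.OutFi22.P14
  Cfsg.Agent.Lib.Helper12.OutFi22.SylData Cfsg.Agent.Lib.Helper12.OutFi22.FinalData
  Cfsg.Agent.Lib.Helper12.OutFi22.SylChk Cfsg.Agent.Lib.Helper12.OutFi22.Tau

/-- the element of order seven -/
noncomputable def sigma : PresentedGroup R := wprod uu sg

theorem sg_lt : ∀ s ∈ sg, s < 9 := by decide

theorem si_lt : ∀ s ∈ si, s < 9 := by decide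

theorem si_eq : si = sg.reverse := by decide

theorem lt21 {w : List ℕ} (hw : ∀ s ∈ w, s < 9) : ∀ s ∈ w, s < 21 :=
  fun s hs => lt_trans (hw s hs) (by norm_num)

theorem sigma_inv : wprod uu si = sigma⁻¹ := by
  rw [si_eq]
  exact wprod_reverse_lt sg sg_lt

theorem wprod_wpow (w : List ℕ) (k : ℕ) : wprod uu (wpow w k) = wprod uu w ^ k := by
  induction k with
  | zero =>
    show wprod uu [] = _
    rw [wprod_nil, pow_zero]
  | succ k ih =>
    have e : wpow w (k + 1) = w ++ wpow w k := rfl
    rw [e, wprod_append, ih, pow_succ']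

theorem wpow_lt (w : List ℕ) (hw : ∀ s ∈ w, s < 9) (k : ℕ) : ∀ s ∈ wpow w k, s < 9 := by
  induction k with
  | zero =>
    intro s hs
    exact absurd hs List.not_mem_nil
  | succ k ih =>
    have e : wpow w (k + 1) = w ++ wpow w k := rfl
    rw [e]
    intro s hs
    rcases List.mem_append.mp hs with h | h
    · exact hw s h
    · exact ih s h

theorem sigma_pow7 : sigma ^ 7 = 1 := by
  unfold sigma
  rw [← wprod_wpow, wprod_uu_eq _ (wpow_lt sg sg_lt 7)]
  exact wprod_v_eq_one _ (wpow_lt sg sg_lt 7) (all_of_marksK hmk7)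

theorem act_sigma {p : ℕ} (hp : p < cN) : act sigma p = Fn.applyW TT sg p :=
  act_word sg (lt21 sg_lt) hp

theorem hmove : Nat.beq (Fn.applyW TT sg 3) 3 = false := by decide +kernel

theorem sigma_ne_one : sigma ≠ 1 := by
  intro h
  have h1 := act_sigma (p := 3) (by decide)
  rw [h, act_one] at h1
  have h2 := hmove
  rw [← h1, Nat.beq_refl] at h2
  exact Bool.noConfusion h2

theorem fix_lt3 {p : ℕ} (hp : p < cN) (h : act sigma p = p) : p < 3 := by
  have h1 := (allBelowK_iff _ _).mp fixS p hp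
  rw [act_sigma hp] at h
  rw [h, Nat.beq_refl, Bool.not_true, Bool.false_or] at h1
  exact Nat.le_of_ble_eq_true h1

theorem hfix3 : ∀ r < 3, Fn.applyW TT sg r = r := by decide +kernel

theorem sigma_fix {r : ℕ} (hr : r < 3) : act sigma r = r := by
  rw [act_sigma (lt_trans hr (by decide))]
  exact hfix3 r hr

theorem act_lt3 {y : PresentedGroup R} (hy : y * sigma = sigma * y) {r : ℕ} (hr : r < 3) : act y r < 3 := by
  have hrN : r < cN := lt_trans hr (by decide)
  apply fix_lt3 (act_lt y hrN)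
  rw [← act_mul, ← hy, act_mul, sigma_fix hr]

theorem SL_lt : ∀ s ∈ SL, ∀ k ∈ s, k < 2 := by decide

/-- the multiplication with an element of the group of the first two generators which fixes the three points -/
theorem exists_adjust {y : PresentedGroup R} (hy : y * sigma = sigma * y) :
    ∃ s ∈ SL, act (wprod uu s * y) 0 = 0 ∧ act (wprod uu s * y) 1 = 1 ∧ act (wprod uu s * y) 2 = 2 := by
  have h0 := act_lt3 hy (show 0 < 3 by norm_num)
  have h1 := act_lt3 hy (show 1 < 3 by norm_num)
  have h2 := act_lt3 hy (show 2 < 3 by norm_num)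
  have n01 : act y 0 ≠ act y 1 := fun h => absurd (act_injective y h) (by decide)
  have n02 : act y 0 ≠ act y 2 := fun h => absurd (act_injective y h) (by decide)
  have n12 : act y 1 ≠ act y 2 := fun h => absurd (act_injective y h) (by decide)
  have h := (allBelowK_iff _ _).mp ((allBelowK_iff _ _).mp ((allBelowK_iff _ _).mp s3_ok _ h0) _ h1) _ h2
  rw [Bool.or_eq_true, Bool.or_eq_true, Bool.or_eq_true] at h
  rcases h with h | h | h | h
  · exact absurd (Nat.eq_of_beq_eq_true h) n01
  · exact absurd (Nat.eq_of_beq_eq_true h) n02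
  · exact absurd (Nat.eq_of_beq_eq_true h) n12
  · obtain ⟨s, hs, hh⟩ := (anyListK_iff _ _).mp h
    rw [Bool.and_eq_true, Bool.and_eq_true] at hh
    obtain ⟨e0, e1, e2⟩ := hh
    have hs21 : ∀ k ∈ s, k < 21 := fun k hk => lt_trans (SL_lt s hs k hk) (by norm_num)
    have hlt : ∀ {r : ℕ}, r < 3 → r < cN := fun hr => lt_trans hr (by decide)
    refine ⟨s, hs, ?_, ?_, ?_⟩
    · rw [act_mul, act_word s hs21 (hlt h0)]
      exact Nat.eq_of_beq_eq_true e0
    · rw [act_mul, act_word s hs21 (hlt h1)]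
      exact Nat.eq_of_beq_eq_true e1
    · rw [act_mul, act_word s hs21 (hlt h2)]
      exact Nat.eq_of_beq_eq_true e2

theorem qp0 : qp 0 = 0 := rfl

theorem qp1 : qp 1 = 2 := rfl

theorem comm_gen_sigma {k : ℕ} (hk : k < 2) : uu k * sigma = sigma * uu k := by
  have h : sigma * uu k = uu k * sigma := by
    rw [comm_iff (isT_gen (show k < 9 by omega)) sigma]
    interval_cases k
    · rw [qp0]
      exact sigma_fix (by norm_num)
    · rw [qp1]
      exact sigma_fix (by norm_num)
  exact h.symm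

theorem comm_word_sigma (s : List ℕ) (hs : ∀ k ∈ s, k < 2) : wprod uu s * sigma = sigma * wprod uu s := by
  induction s with
  | nil => rw [wprod_nil, one_mul, mul_one]
  | cons k l ih =>
    rw [wprod_cons, mul_assoc, ih (fun t ht => hs t (List.mem_cons_of_mem _ ht)), ← mul_assoc,
      comm_gen_sigma (hs k List.mem_cons_self), mul_assoc]

/-- the commuting of an element and a conjugate by an element which commutes with the first one -/
theorem conj_comm {x y u : PresentedGroup R} (hxy : y * x = x * y) :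
    x * (y * u * y⁻¹) = y * u * y⁻¹ * x ↔ x * u = u * x := by
  have hinv : y⁻¹ * x = x * y⁻¹ := by
    have h1 : y⁻¹ * (y * x) * y⁻¹ = y⁻¹ * (x * y) * y⁻¹ := by rw [hxy]
    have e1 : y⁻¹ * (y * x) * y⁻¹ = x * y⁻¹ := by group
    have e2 : y⁻¹ * (x * y) * y⁻¹ = y⁻¹ * x := by group
    rw [e1, e2] at h1
    exact h1.symm
  have e1 : x * (y * u * y⁻¹) = y * (x * u) * y⁻¹ := by
    have : x * (y * u * y⁻¹) = (x * y) * u * y⁻¹ := by group
    rw [this, ← hxy]
    group
  have e2 : y * u * y⁻¹ * x = y * (u * x) * y⁻¹ := by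
    have : y * u * y⁻¹ * x = y * u * (y⁻¹ * x) := by group
    rw [this, hinv]
    group
  rw [e1, e2]
  constructor
  · intro h
    exact mul_left_cancel (mul_right_cancel h)
  · intro h
    rw [h]

theorem conj_eq_of_comm {x y : PresentedGroup R} (hxy : y * x = x * y) : y * x * y⁻¹ = x := by
  rw [hxy]
  group

theorem letW_lt (x : List ℕ) (hx : ∀ s ∈ x, s < 9) (i : ℕ) : ∀ s ∈ letW x i, s < 9 := by
  unfold letW
  match i with
  | 0 => exact sg_lt
  | 1 => exact si_lt
  | 2 =>
    show ∀ s ∈ [0], s < 9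
    decide
  | 3 =>
    show ∀ s ∈ [1], s < 9
    decide
  | 4 => exact hx
  | _ + 5 =>
    intro s hs
    exact absurd hs List.not_mem_nil

theorem wprod_flatMap (sb : ℕ → List ℕ) (b : List ℕ) :
    wprod (fun s => wprod uu (sb s)) b = wprod uu (b.flatMap sb) := by
  induction b with
  | nil => rfl
  | cons s l ih => rw [wprod_cons, List.flatMap_cons, wprod_append, ih]

theorem flatMap_lt (sb : ℕ → List ℕ) (hsb : ∀ i, ∀ s ∈ sb i, s < 9) (b : List ℕ) : ∀ s ∈ b.flatMap sb, s < 21 := by
  intro s hs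
  rw [List.mem_flatMap] at hs
  obtain ⟨i, _, hi⟩ := hs
  exact lt_trans (hsb i s hi) (by norm_num)

theorem wprod_conj (f g : ℕ → PresentedGroup R) (y : PresentedGroup R) (W : List ℕ)
    (h : ∀ i ∈ W, f i = y * g i * y⁻¹) : wprod f W = y * wprod g W * y⁻¹ := by
  induction W with
  | nil => rw [wprod_nil, wprod_nil, mul_one, mul_inv_cancel]
  | cons i l ih =>
    rw [wprod_cons, wprod_cons, h i List.mem_cons_self, ih (fun t ht => h t (List.mem_cons_of_mem _ ht))]
    group

theorem wprod_single (k : ℕ) : wprod uu [k] = uu k := by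
  rw [wprod_cons, wprod_nil, mul_one]

/-- a certificate excludes a point -/
theorem kill_sound {p : ℕ} {W : List ℕ} (hk : killK p W = true) (hdw : ∀ s ∈ dwa p, s < 9)
    {y : PresentedGroup R} (hy : y * sigma = sigma * y) (f0 : act y 0 = 0)
    (hc0 : y * uu 0 = uu 0 * y) (hc1 : y * uu 1 = uu 1 * y)
    (he : y * uu 2 * y⁻¹ = wprod uu (dwa p)) : False := by
  unfold killK at hk
  rw [Bool.and_eq_true, Bool.and_eq_true] at hk
  obtain ⟨hlet, href, hmov⟩ := hk
  have hlet' : ∀ i ∈ W, i < 5 := fun i hi => Nat.le_of_ble_eq_true ((allListK_iff _ _).mp hlet i hi)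
  have hysi : y * sigma⁻¹ = sigma⁻¹ * y := by
    have h1 : sigma⁻¹ * (y * sigma) * sigma⁻¹ = sigma⁻¹ * (sigma * y) * sigma⁻¹ := by rw [hy]
    have e1 : sigma⁻¹ * (y * sigma) * sigma⁻¹ = sigma⁻¹ * y := by group
    have e2 : sigma⁻¹ * (sigma * y) * sigma⁻¹ = y * sigma⁻¹ := by group
    rw [e1, e2] at h1
    exact h1.symm
  have hconj : ∀ i ∈ W, wprod uu (letW (dwa p) i) = y * wprod uu (letW [2] i) * y⁻¹ := by
    intro i hi
    have h5 := hlet' i hi
    interval_cases i
    · show wprod uu sg = y * wprod uu sg * y⁻¹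
      exact (conj_eq_of_comm hy).symm
    · show wprod uu si = y * wprod uu si * y⁻¹
      rw [sigma_inv]
      exact (conj_eq_of_comm hysi).symm
    · show wprod uu [0] = y * wprod uu [0] * y⁻¹
      rw [wprod_single]
      exact (conj_eq_of_comm hc0).symm
    · show wprod uu [1] = y * wprod uu [1] * y⁻¹
      rw [wprod_single]
      exact (conj_eq_of_comm hc1).symm
    · show wprod uu (dwa p) = y * wprod uu [2] * y⁻¹
      rw [wprod_single]
      exact he.symm
  have h1 := wprod_conj _ _ y W hconj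
  rw [wprod_flatMap, wprod_flatMap] at h1
  have h2 : act (wprod uu (W.flatMap (letW (dwa p)))) 0 = 0 := by
    rw [h1, act_mul, act_mul, act_inv_of_fix f0,
      act_word _ (flatMap_lt _ (letW_lt [2] (by decide)) W) hN0, Nat.eq_of_beq_eq_true href, f0]
  rw [act_word _ (flatMap_lt _ (letW_lt (dwa p) hdw) W) hN0] at h2
  rw [h2] at hmov
  exact Bool.noConfusion hmov

end Cfsg.Agent.Lib.Helper12.OutFi22.Syl
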