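import Cfsg.Agent.Lib.Helper12.OutFi22.SylData
import Cfsg.Agent.Lib.Helper12.OutFi22.FinalData

/-!
The checks for the centraliser of an element of order seven of the presented group Fi22 (helper12).
-/

set_option autoImplicit false
set_option maxRecDepth 100000

namespace Cfsg.Agent.Lib.Helper12.OutFi22.SylChk

open Cfsg.Spor Cfsg.Agent.Lib.Helper12.TC Cfsg.Agent.Lib.Helper12.TC.Fi22o3510
  Cfsg.Agent.Lib.Helper12.TC.Fi22Pres Cfsg.Agent.Lib.Helper12.Ord
  Cfsg.Agent.Lib.Helper12.Ord.Fi22Simple Cfsg.Agent.Lib.Helper12.OutFi22.Base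
  Cfsg.Agent.Lib.Helper12.OutFi22.Transp Cfsg.Agent.Lib.Helper12.OutFi22.P14
  Cfsg.Agent.Lib.Helper12.OutFi22.SylData Cfsg.Agent.Lib.Helper12.OutFi22.FinalData

/-- the word of the transposition of a point of the list -/
noncomputable def dwa (p : ℕ) : List ℕ :=
  @List.rec (ℕ × ℕ × List ℕ) (fun _ => List ℕ) []
    (fun e _ ih => cond (Nat.beq e.1 p) (e.2.2 ++ e.2.1 :: e.2.2.reverse) ih) dwA

theorem dwa_ok : ∀ e ∈ dwA, (∀ s ∈ e.2.2, s < 9) ∧ e.2.1 < 9 ∧ dwa e.1 = e.2.2 ++ e.2.1 :: e.2.2.reverse ∧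
    Fn.applyW TT e.2.2 (qp e.2.1) = e.1 := by
  decide +kernel

theorem LA_sub : ∀ p ∈ LA, ∃ e ∈ dwA, e.1 = p := by decide +kernel

theorem hmk7 : Fn.marksK TT cN [(sg, 7)] = true := by decide +kernel

theorem fixS : allBelowK cN (fun p => !(Nat.beq (Fn.applyW TT sg p) p) || Nat.blt p 3) = true := by
  decide +kernel

theorem scanA : allBelowK cN (fun p => !(Nat.beq (TT 0 p) p && !(Nat.beq (TT 1 p) p)) || memK LA p) = true := by
  decide +kernel

theorem scan14 : allBelowK 14080 (fun z => !(Nat.beq (T14 1 z) z && Nat.beq (Fn.applyW T14 sg z) z) ||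
    Nat.beq z 0) = true := by
  decide +kernel

theorem filtB : allListK LA (fun p => !(Nat.beq (Fn.applyW T14 (dwa p) 0) 0) || memK LB p) = true := by
  decide +kernel

/-- the words of the letters -/
def letW (x : List ℕ) (i : ℕ) : List ℕ := [sg, si, [0], [1], x].getD i []

/-- the test of a certificate -/
noncomputable def killK (p : ℕ) (W : List ℕ) : Bool :=
  allListK W (fun i => Nat.blt i 5) &&
    (Nat.beq (Fn.applyW TT (W.flatMap (letW [2])) 0) 0 &&
      !(Nat.beq (Fn.applyW TT (W.flatMap (letW (dwa p))) 0) 0))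

/-- the certificate of a point -/
def certOf (p : ℕ) : List ℕ :=
  @List.rec (ℕ × List ℕ) (fun _ => List ℕ) [] (fun e _ ih => cond (Nat.beq e.1 p) e.2 ih) certL

theorem killB : allListK LB (fun p => memK LV p || killK p (certOf p)) = true := by decide +kernel

theorem LV_ok : ∀ p ∈ LV, ∃ j < 7, Fn.applyW TT (wpow sg j) (qp 2) = p := by decide +kernel

/-- the letters for the transitivity -/
def TL : List (List ℕ) := [sg, si, [0], [1], [2]]

/-- the entry of a table of numbers of 16 bits -/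
def tab16 (D p : ℕ) : ℕ := Nat.land (Nat.shiftRight D (Nat.mul 16 p)) 65535

/-- the test of a point: a letter maps it to a point of smaller rank -/
noncomputable def transK (p : ℕ) : Bool :=
  Nat.beq p 0 || forceN (tab16 DN p) (fun e => forceN (Fn.applyW TT (TL.getD (Nat.land e 7) []) p) (fun p' =>
    Nat.blt (Nat.shiftRight (tab16 DN p') 3) (Nat.shiftRight e 3)))

theorem trans_ok : allBelowK cN transK = true := by decide +kernel

/-- the words of the elements of the group which is generated by the first two generators -/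
def SL : List (List ℕ) := [[], [1], [1, 0], [0], [0, 1], [0, 1, 0]]

theorem s3_ok : allBelowK 3 (fun r0 => allBelowK 3 (fun r1 => allBelowK 3 (fun r2 =>
    Nat.beq r0 r1 || (Nat.beq r0 r2 || (Nat.beq r1 r2 ||
      anyListK SL (fun s => Nat.beq (Fn.applyW TT s r0) 0 && (Nat.beq (Fn.applyW TT s r1) 1 &&
        Nat.beq (Fn.applyW TT s r2) 2))))))) = true := by
  decide +kernel

theorem inv_ok : ∀ s ∈ SL, ∀ j < 7, (j = 0 ∧ (s = [] ∨ s = [1] ∨ s = [0] ∨ s = [0, 1, 0])) ∨
    ∃ t < 10, Fn.applyW TT ((s.reverse ++ wpow sg j) ++ (s.reverse ++ wpow sg j)) t ≠ t := by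
  decide +kernel

end Cfsg.Agent.Lib.Helper12.OutFi22.SylChk
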